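import Mathlib.RingTheory.Kaehler.Basic
import Mathlib.LinearAlgebra.TensorProduct.RightExactness
import Mathlib.RingTheory.Filtration
import Mathlib.RingTheory.Nakayama
import Mathlib.Tactic.LinearCombination
import Mathlib.RingTheory.TensorProduct.Finite

/-!
The ideal of the singular locus of a formal node is defined over the local ring: differential argument.
-/

set_option autoImplicit false
universe u

open IsLocalRing TensorProduct

noncomputable section

namespace Groth.Agent.Misc3.NodeSec

variable {R C E : Type u} [CommRing R] [CommRing C] [CommRing E] [Algebra R C] [Algebra C E] [Algebra R E]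
  [IsScalarTower R C E] [IsLocalRing C]

/-- The pair module `E²/(v, u)`. -/
abbrev N0 (u v : E) : Type u := (E × E) ⧸ Submodule.span E ({(v, u)} : Set (E × E))

theorem mem_smul_of_derivation {N : Type u} [AddCommGroup N] [Module C N] [Module R N]
    (d : Derivation R C N) (I : Ideal C) (n : ℕ) {x : C} (hx : x ∈ I ^ (n + 1)) :
    d x ∈ I ^ n • (⊤ : Submodule C N) := by
  induction n generalizing x with
  | zero => rw [pow_zero, Ideal.one_eq_top, Submodule.top_smul]; trivial
  | succ n ih =>
    rw [pow_succ] at hx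
    refine Submodule.mul_induction_on hx (fun a ha b hb => ?_) (fun a b ha hb => ?_)
    · rw [Derivation.leibniz]
      refine add_mem (Submodule.smul_mem_smul ha (Submodule.mem_top)) ?_
      have h := Submodule.smul_mem_smul hb (ih ha)
      rw [← Submodule.mul_smul, ← smul_eq_mul (α := Ideal C)] at h
      rwa [smul_eq_mul, ← pow_succ'] at h
    · rw [map_add]; exact add_mem ha hb

theorem exists_ideal [IsNoetherianRing C] [IsNoetherianRing E] [IsLocalRing E]
    [Module.Finite C (KaehlerDifferential R C)]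
    (u v : E) (hu : u ∈ maximalIdeal E) (hv : v ∈ maximalIdeal E) (Δ : R) (huv : u * v = algebraMap R E Δ)
    (hmap : (maximalIdeal C).map (algebraMap C E) = maximalIdeal E)
    (hcomap : ∀ n, (maximalIdeal E ^ n).comap (algebraMap C E) = maximalIdeal C ^ n)
    (hdense : ∀ (n : ℕ) (x : E), ∃ c : C, x - algebraMap C E c ∈ maximalIdeal E ^ n)
    (hgen : ∀ x : E, ∃ (r : R) (a b : E), x - (algebraMap R E r + a * u + b * v) ∈ maximalIdeal E ^ 2)
    (D : Derivation R E (N0 u v)) (hDu : D u = Submodule.Quotient.mk (1, 0))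
    (hDv : D v = Submodule.Quotient.mk (0, 1)) :
    ∃ H : Ideal C, H.map (algebraMap C E) = Ideal.span {u, v} := by
  classical
  let N := N0 u v
  let Ω := KaehlerDifferential R C
  let d := KaehlerDifferential.D R C
  let γ₀ : Ω →ₗ[C] N := (D.compAlgebraMap C).liftKaehlerDifferential
  have hγ₀ : ∀ c, γ₀ (d c) = D (algebraMap C E c) := fun c =>
    Derivation.liftKaehlerDifferential_comp_D _ c
  let γ : E ⊗[C] Ω →ₗ[E] N := γ₀.liftBaseChange E
  have hmn : ∀ (n : ℕ) {w : C}, algebraMap C E w ∈ maximalIdeal E ^ n → w ∈ maximalIdeal C ^ n :=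
    fun n w hw => hcomap n ▸ hw
  have hDm : ∀ (n : ℕ) (x : E), x ∈ maximalIdeal E ^ (n + 1) →
      D x ∈ (maximalIdeal E ^ n) • (⊤ : Submodule E N) := fun n x hx =>
    mem_smul_of_derivation D (maximalIdeal E) n hx
  -- generators
  have hspan : ∀ cu cv : C, u - algebraMap C E cu ∈ maximalIdeal E ^ 2 →
      v - algebraMap C E cv ∈ maximalIdeal E ^ 2 → Submodule.span C {d cu, d cv} = ⊤ := by
    intro cu cv hcu hcv
    refine eq_top_iff.mpr (Submodule.le_of_le_smul_of_le_jacobson_bot Module.Finite.fg_top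
      (maximalIdeal_le_jacobson ⊥) ?_)
    refine (le_of_eq (KaehlerDifferential.span_range_derivation R C).symm).trans (Submodule.span_le.mpr ?_)
    rintro _ ⟨c, rfl⟩
    obtain ⟨r, a, b, h⟩ := hgen (algebraMap C E c)
    obtain ⟨a', ha⟩ := hdense 2 a
    obtain ⟨b', hb⟩ := hdense 2 b
    let w := c - (algebraMap R C r + a' * cu + b' * cv)
    have hw : w ∈ maximalIdeal C ^ 2 := by
      refine hmn 2 ?_
      simp only [w, map_sub, map_add, map_mul, ← IsScalarTower.algebraMap_apply R C E]
      have : algebraMap C E c - (algebraMap R E r + algebraMap C E a' * algebraMap C E cu +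
          algebraMap C E b' * algebraMap C E cv) =
          (algebraMap C E c - (algebraMap R E r + a * u + b * v)) + ((a - algebraMap C E a') * u +
            algebraMap C E a' * (u - algebraMap C E cu)) + ((b - algebraMap C E b') * v +
            algebraMap C E b' * (v - algebraMap C E cv)) := by ring
      rw [this]
      exact add_mem (add_mem h (add_mem (Ideal.mul_mem_right _ _ ha) (Ideal.mul_mem_left _ _ hcu)))
        (add_mem (Ideal.mul_mem_right _ _ hb) (Ideal.mul_mem_left _ _ hcv))
    have hcum : ∀ (z : E) (zc : C), z ∈ maximalIdeal E → z - algebraMap C E zc ∈ maximalIdeal E ^ 2 →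
        zc ∈ maximalIdeal C := by
      intro z zc hz hzc
      have : algebraMap C E zc ∈ maximalIdeal E ^ 1 := by
        rw [pow_one]
        have := sub_mem hz (Ideal.pow_le_self two_ne_zero hzc)
        rwa [sub_sub_cancel] at this
      simpa using hmn 1 this
    have hdc : d c = (a' • d cu + b' • d cv) + ((cu • d a' + cv • d b') + d w) := by
      rw [show d w = d c - d (algebraMap R C r + a' * cu + b' * cv) from map_sub _ _ _, map_add, map_add,
        Derivation.map_algebraMap, Derivation.leibniz, Derivation.leibniz]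
      abel
    rw [SetLike.mem_coe, show (KaehlerDifferential.D R C) c = d c from rfl, hdc]
    refine add_mem (Submodule.mem_sup_left (add_mem ?_ ?_)) (Submodule.mem_sup_right (add_mem (add_mem ?_ ?_) ?_))
    · exact Submodule.smul_mem _ _ (Submodule.subset_span (Set.mem_insert _ _))
    · exact Submodule.smul_mem _ _ (Submodule.subset_span (Set.mem_insert_of_mem _ rfl))
    · exact Submodule.smul_mem_smul (hcum u cu hu hcu) Submodule.mem_top
    · exact Submodule.smul_mem_smul (hcum v cv hv hcv) Submodule.mem_top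
    · simpa using mem_smul_of_derivation d (maximalIdeal C) 1 hw
  obtain ⟨cu, hcu⟩ := hdense 2 u
  obtain ⟨cv, hcv⟩ := hdense 2 v
  -- writing elements of `E ⊗ Ω` by two generators
  have hrep : ∀ cu cv : C, u - algebraMap C E cu ∈ maximalIdeal E ^ 2 →
      v - algebraMap C E cv ∈ maximalIdeal E ^ 2 → ∀ x : E ⊗[C] Ω,
      ∃ α β : E, x = α ⊗ₜ d cu + β ⊗ₜ d cv := by
    intro cu cv hcu hcv x
    induction x using TensorProduct.induction_on with
    | zero => exact ⟨0, 0, by simp⟩
    | tmul e w =>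
      obtain ⟨a, b, rfl⟩ := Submodule.mem_span_pair.mp
        (show w ∈ Submodule.span C {d cu, d cv} by rw [hspan cu cv hcu hcv]; trivial)
      exact ⟨a • e, b • e, by rw [TensorProduct.tmul_add, TensorProduct.tmul_smul, TensorProduct.tmul_smul,
        TensorProduct.smul_tmul', TensorProduct.smul_tmul']⟩
    | add x y hx hy =>
      obtain ⟨α, β, rfl⟩ := hx
      obtain ⟨α', β', rfl⟩ := hy
      exact ⟨α + α', β + β', by rw [TensorProduct.add_tmul, TensorProduct.add_tmul]; abel⟩
  have hsm : ∀ (e : E) (w : Ω), e ⊗ₜ[C] w = e • ((1 : E) ⊗ₜ[C] w) := fun e w => by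
    rw [TensorProduct.smul_tmul', smul_eq_mul, mul_one]
  -- `γ` is injective
  have hinj : ∀ x, γ x = 0 → x = 0 := by
    intro x hx
    have hx' : x ∈ ⨅ n, (maximalIdeal E ^ n) • (⊤ : Submodule E (E ⊗[C] Ω)) := by
      refine (Submodule.mem_iInf _).mpr fun n => ?_
      obtain ⟨cu, hcu⟩ := hdense (n + 2) u
      obtain ⟨cv, hcv⟩ := hdense (n + 2) v
      obtain ⟨α, β, hαβ⟩ := hrep cu cv (Ideal.pow_le_pow_right (Nat.le_add_left 2 n) hcu)
        (Ideal.pow_le_pow_right (Nat.le_add_left 2 n) hcv) x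
      let P : Submodule E N := maximalIdeal E ^ n • ⊤
      have e1 : ∀ (z : E) (cz : C) (m : E × E), z - algebraMap C E cz ∈ maximalIdeal E ^ (n + 2) →
          D z = Submodule.Quotient.mk m → γ₀ (d cz) - Submodule.Quotient.mk m ∈ P := by
        intro z cz m hz hm
        rw [hγ₀, ← hm, ← map_sub, ← neg_sub, map_neg]
        exact neg_mem (hDm n _ (Ideal.pow_le_pow_right (Nat.le_succ _) hz))
      have e2 : (Submodule.Quotient.mk (α, β) : N) ∈ P := by
        have h0 : α • γ₀ (d cu) + β • γ₀ (d cv) = 0 := by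
          rw [← hx, hαβ, map_add]
          rfl
        have h1 := add_mem (P.smul_mem α (e1 u cu _ hcu hDu)) (P.smul_mem β (e1 v cv _ hcv hDv))
        have h2 : α • (γ₀ (d cu) - Submodule.Quotient.mk (1, 0)) + β • (γ₀ (d cv) - Submodule.Quotient.mk (0, 1)) =
            (α • γ₀ (d cu) + β • γ₀ (d cv)) - (Submodule.Quotient.mk (α, β) : N) := by
          have : (Submodule.Quotient.mk (α, β) : N) =
              α • (Submodule.Quotient.mk (1, 0) : N) + β • Submodule.Quotient.mk (0, 1) := by
            rw [← Submodule.Quotient.mk_smul, ← Submodule.Quotient.mk_smul, ← Submodule.Quotient.mk_add]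
            simp
          rw [this, smul_sub, smul_sub]; abel
        rw [h2, h0, zero_sub] at h1
        exact (Submodule.neg_mem_iff P).mp h1
      have e3 : (α, β) ∈ Submodule.span E ({(v, u)} : Set (E × E)) ⊔ maximalIdeal E ^ n • (⊤ : Submodule E (E × E)) := by
        have : P = (maximalIdeal E ^ n • (⊤ : Submodule E (E × E))).map
            (Submodule.span E ({(v, u)} : Set (E × E))).mkQ := by
          rw [Submodule.map_smul'', Submodule.map_top, Submodule.range_mkQ]
        rw [this, Submodule.mem_map] at e2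
        obtain ⟨y, hy, hy'⟩ := e2
        have h3 := (Submodule.Quotient.eq _).mp hy'.symm
        rw [← sub_add_cancel (α, β) y]
        exact add_mem (Submodule.mem_sup_left h3) (Submodule.mem_sup_right hy)
      obtain ⟨l, hl, m, hm, hlm⟩ := Submodule.mem_sup.mp e3
      obtain ⟨lam, rfl⟩ := Submodule.mem_span_singleton.mp hl
      obtain ⟨rfl, rfl⟩ : lam * v + m.1 = α ∧ lam * u + m.2 = β :=
        ⟨congrArg Prod.fst hlm, congrArg Prod.snd hlm⟩
      have hm1 : m.1 ∈ maximalIdeal E ^ n ∧ m.2 ∈ maximalIdeal E ^ n := by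
        refine Submodule.smul_induction_on hm (fun r hr z _ => ?_) fun y z hy hz =>
          ⟨add_mem hy.1 hz.1, add_mem hy.2 hz.2⟩
        exact ⟨Ideal.mul_mem_right _ _ hr, Ideal.mul_mem_right _ _ hr⟩
      let Q : Submodule E (E ⊗[C] Ω) := maximalIdeal E ^ n • ⊤
      have hQ : ∀ (z : E) (w : Ω), z ∈ maximalIdeal E ^ n → z ⊗ₜ[C] w ∈ Q := fun z w hz => by
        rw [hsm]; exact Submodule.smul_mem_smul hz Submodule.mem_top
      have hcc : cu * cv - algebraMap R C Δ ∈ maximalIdeal C ^ (n + 2) := by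
        refine hmn (n + 2) ?_
        rw [map_sub, map_mul, ← IsScalarTower.algebraMap_apply R C E, ← huv,
          show algebraMap C E cu * algebraMap C E cv - u * v =
            -((u - algebraMap C E cu) * v + algebraMap C E cu * (v - algebraMap C E cv)) by ring]
        exact neg_mem (add_mem (Ideal.mul_mem_right _ _ hcu) (Ideal.mul_mem_left _ _ hcv))
      have hprod : ((1 : E) ⊗ₜ[C] d (cu * cv)) ∈ Q := by
        have h4 : d (cu * cv) ∈ maximalIdeal C ^ n • (⊤ : Submodule C Ω) := by
          have := mem_smul_of_derivation d (maximalIdeal C) n (Ideal.pow_le_pow_right (Nat.le_succ _) hcc)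
          rwa [map_sub, Derivation.map_algebraMap, sub_zero] at this
        refine Submodule.smul_induction_on h4 (fun r hr w _ => ?_) fun y z hy hz => ?_
        · rw [TensorProduct.tmul_smul, TensorProduct.smul_tmul']
          refine hQ _ _ ?_
          rw [Algebra.smul_def, mul_one]
          have := Ideal.mem_map_of_mem (algebraMap C E) hr
          rwa [Ideal.map_pow, hmap] at this
        · rw [TensorProduct.tmul_add]; exact add_mem hy hz
      have hrel : v ⊗ₜ[C] d cu + u ⊗ₜ[C] d cv ∈ Q := by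
        have h5 : (1 : E) ⊗ₜ[C] d (cu * cv) = algebraMap C E cu ⊗ₜ d cv + algebraMap C E cv ⊗ₜ d cu := by
          rw [Derivation.leibniz, TensorProduct.tmul_add, TensorProduct.tmul_smul, TensorProduct.tmul_smul,
            TensorProduct.smul_tmul', TensorProduct.smul_tmul', Algebra.smul_def, Algebra.smul_def, mul_one, mul_one]
        rw [show v ⊗ₜ[C] d cu + u ⊗ₜ[C] d cv = (1 : E) ⊗ₜ[C] d (cu * cv) +
          ((v - algebraMap C E cv) ⊗ₜ[C] d cu + (u - algebraMap C E cu) ⊗ₜ[C] d cv) by
            rw [h5, TensorProduct.sub_tmul, TensorProduct.sub_tmul]; abel]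
        exact add_mem hprod (add_mem (hQ _ _ (Ideal.pow_le_pow_right (Nat.le_add_right n 2) hcv))
          (hQ _ _ (Ideal.pow_le_pow_right (Nat.le_add_right n 2) hcu)))
      rw [hαβ, TensorProduct.add_tmul, TensorProduct.add_tmul,
        show (lam * v) ⊗ₜ[C] d cu + m.1 ⊗ₜ[C] d cu + ((lam * u) ⊗ₜ[C] d cv + m.2 ⊗ₜ[C] d cv) =
          lam • (v ⊗ₜ[C] d cu + u ⊗ₜ[C] d cv) + (m.1 ⊗ₜ[C] d cu + m.2 ⊗ₜ[C] d cv) by
            rw [smul_add, TensorProduct.smul_tmul', TensorProduct.smul_tmul', smul_eq_mul, smul_eq_mul]; abel]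
      exact add_mem (Q.smul_mem _ hrel) (add_mem (hQ _ _ hm1.1) (hQ _ _ hm1.2))
    haveI : Module.Finite E (E ⊗[C] Ω) := Module.Finite.base_change C E Ω
    rw [Ideal.iInf_pow_smul_eq_bot_of_isLocalRing _ (maximalIdeal.isMaximal E).ne_top] at hx'
    exact hx'
  -- the relation module
  let π : C × C →ₗ[C] Ω := (LinearMap.toSpanSingleton C Ω (d cu)).coprod (LinearMap.toSpanSingleton C Ω (d cv))
  have hπ : Function.Surjective π := fun w => by
    obtain ⟨a, b, h⟩ := Submodule.mem_span_pair.mp
      (show w ∈ Submodule.span C {d cu, d cv} by rw [hspan cu cv hcu hcv]; trivial)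
    exact ⟨(a, b), h⟩
  let K := LinearMap.ker π
  have hex : Function.Exact K.subtype π := fun z => by simp [K]
  refine ⟨Ideal.span (Prod.fst '' (K : Set (C × C)) ∪ Prod.snd '' (K : Set (C × C))), le_antisymm ?_ ?_⟩
  · rw [Ideal.map_span, Ideal.span_le]
    obtain ⟨g1, hg1⟩ := Submodule.Quotient.mk_surjective _ (D (algebraMap C E cu))
    obtain ⟨g2, hg2⟩ := Submodule.Quotient.mk_surjective _ (D (algebraMap C E cv))
    have hgm : ∀ (z : E) (cz : C) (g m : E × E), z - algebraMap C E cz ∈ maximalIdeal E ^ 2 →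
        D z = Submodule.Quotient.mk m → Submodule.Quotient.mk g = D (algebraMap C E cz) →
        g.1 - m.1 ∈ maximalIdeal E ∧ g.2 - m.2 ∈ maximalIdeal E := by
      intro z cz g m hz hm hg
      have h := hDm 1 _ hz
      rw [map_sub, hm, ← hg, ← Submodule.Quotient.mk_sub, pow_one] at h
      have h' : (m - g) ∈ Submodule.span E ({(v, u)} : Set (E × E)) ⊔ maximalIdeal E • (⊤ : Submodule E (E × E)) := by
        have : maximalIdeal E • (⊤ : Submodule E N) = (maximalIdeal E • (⊤ : Submodule E (E × E))).map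
            (Submodule.span E ({(v, u)} : Set (E × E))).mkQ := by
          rw [Submodule.map_smul'', Submodule.map_top, Submodule.range_mkQ]
        rw [this, Submodule.mem_map] at h
        obtain ⟨y, hy, hy'⟩ := h
        rw [← sub_add_cancel (m - g) y]
        exact add_mem (Submodule.mem_sup_left ((Submodule.Quotient.eq _).mp hy'.symm)) (Submodule.mem_sup_right hy)
      obtain ⟨l, hl, y, hy, hly⟩ := Submodule.mem_sup.mp h'
      obtain ⟨lam, rfl⟩ := Submodule.mem_span_singleton.mp hl
      have hy1 : y.1 ∈ maximalIdeal E ∧ y.2 ∈ maximalIdeal E := by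
        refine Submodule.smul_induction_on hy (fun r hr z _ => ?_) fun y z hy hz =>
          ⟨add_mem hy.1 hz.1, add_mem hy.2 hz.2⟩
        exact ⟨Ideal.mul_mem_right _ _ hr, Ideal.mul_mem_right _ _ hr⟩
      have h1 : lam * v + y.1 = m.1 - g.1 := congrArg Prod.fst hly
      have h2 : lam * u + y.2 = m.2 - g.2 := congrArg Prod.snd hly
      constructor
      · rw [← neg_sub, ← h1]; exact neg_mem (add_mem (Ideal.mul_mem_left _ _ hv) hy1.1)
      · rw [← neg_sub, ← h2]; exact neg_mem (add_mem (Ideal.mul_mem_left _ _ hu) hy1.2)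
    obtain ⟨hg11, hg12⟩ := hgm u cu g1 _ hcu hDu hg1
    obtain ⟨hg21, hg22⟩ := hgm v cv g2 _ hcv hDv hg2
    have hkey : ∀ k ∈ K, algebraMap C E k.1 ∈ Ideal.span {u, v} ∧ algebraMap C E k.2 ∈ Ideal.span {u, v} := by
      intro k hk
      have h := congrArg γ₀ (LinearMap.mem_ker.mp hk)
      simp only [π, LinearMap.coprod_apply, LinearMap.toSpanSingleton_apply, map_add, map_smul, map_zero, hγ₀] at h
      rw [← algebraMap_smul E k.1, ← algebraMap_smul E k.2, ← hg1, ← hg2, ← Submodule.Quotient.mk_smul,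
        ← Submodule.Quotient.mk_smul, ← Submodule.Quotient.mk_add, Submodule.Quotient.mk_eq_zero,
        Submodule.mem_span_singleton] at h
      obtain ⟨lam, hlam⟩ := h
      have h1 : lam * v = algebraMap C E k.1 * g1.1 + algebraMap C E k.2 * g2.1 := congrArg Prod.fst hlam
      have h2 : lam * u = algebraMap C E k.1 * g1.2 + algebraMap C E k.2 * g2.2 := congrArg Prod.snd hlam
      have hdet : IsUnit (g1.1 * g2.2 - g1.2 * g2.1) := by
        by_contra hc
        have hc' : g1.1 * g2.2 - g1.2 * g2.1 ∈ maximalIdeal E := (mem_maximalIdeal _).mpr hc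
        simp only [sub_zero] at hg12 hg21
        have : (1 : E) ∈ maximalIdeal E := by
          rw [show (1 : E) = (g1.1 * g2.2 - g1.2 * g2.1) - ((g1.1 - 1) * g2.2 + (g2.2 - 1) - g1.2 * g2.1) by ring]
          exact sub_mem hc' (sub_mem (add_mem (Ideal.mul_mem_right _ _ hg11) hg22) (Ideal.mul_mem_right _ _ hg12))
        exact (maximalIdeal.isMaximal E).ne_top ((Ideal.eq_top_iff_one _).mpr this)
      have hu' : u ∈ Ideal.span {u, v} := Ideal.subset_span (Set.mem_insert _ _)
      have hv' : v ∈ Ideal.span {u, v} := Ideal.subset_span (Set.mem_insert_of_mem _ rfl)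
      constructor <;> refine (Ideal.mul_unit_mem_iff_mem _ hdet).mp ?_
      · rw [show algebraMap C E k.1 * (g1.1 * g2.2 - g1.2 * g2.1) = lam * v * g2.2 - lam * u * g2.1 by
          rw [h1, h2]; ring]
        exact sub_mem (Ideal.mul_mem_right _ _ (Ideal.mul_mem_left _ _ hv'))
          (Ideal.mul_mem_right _ _ (Ideal.mul_mem_left _ _ hu'))
      · rw [show algebraMap C E k.2 * (g1.1 * g2.2 - g1.2 * g2.1) = lam * u * g1.1 - lam * v * g1.2 by
          rw [h1, h2]; ring]
        exact sub_mem (Ideal.mul_mem_right _ _ (Ideal.mul_mem_left _ _ hu'))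
          (Ideal.mul_mem_right _ _ (Ideal.mul_mem_left _ _ hv'))
    rintro _ ⟨c, hc, rfl⟩
    rcases hc with ⟨k, hk, rfl⟩ | ⟨k, hk, rfl⟩
    · exact (hkey k hk).1
    · exact (hkey k hk).2
  · let J := Ideal.map (algebraMap C E)
      (Ideal.span (Prod.fst '' (K : Set (C × C)) ∪ Prod.snd '' (K : Set (C × C))))
    -- the relation of `E ⊗ Ω`
    have hker : ∀ α β : E, α ⊗ₜ[C] d cu + β ⊗ₜ[C] d cv = 0 → α ∈ J ∧ β ∈ J := by
      intro α β h
      have hz : (π.lTensor E) (α ⊗ₜ[C] ((1, 0) : C × C) + β ⊗ₜ[C] ((0, 1) : C × C)) = 0 := by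
        rw [map_add, LinearMap.lTensor_tmul, LinearMap.lTensor_tmul]
        simpa [π] using h
      obtain ⟨z, hz'⟩ := (lTensor_exact E hex hπ _).mp hz
      let c1 : E ⊗[C] (C × C) →ₗ[C] E :=
        ((LinearMap.mul' C E) ∘ₗ ((Algebra.linearMap C E).lTensor E)) ∘ₗ ((LinearMap.fst C C C).lTensor E)
      let c2 : E ⊗[C] (C × C) →ₗ[C] E :=
        ((LinearMap.mul' C E) ∘ₗ ((Algebra.linearMap C E).lTensor E)) ∘ₗ ((LinearMap.snd C C C).lTensor E)
      have hc : ∀ z, c1 ((K.subtype.lTensor E) z) ∈ J ∧ c2 ((K.subtype.lTensor E) z) ∈ J := by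
        intro z
        induction z using TensorProduct.induction_on with
        | zero => simp
        | tmul e k =>
          simp only [c1, c2, LinearMap.comp_apply, LinearMap.lTensor_tmul, LinearMap.mul'_apply,
            Algebra.linearMap_apply]
          exact ⟨Ideal.mul_mem_left _ _ (Ideal.mem_map_of_mem _ (Ideal.subset_span (Or.inl ⟨k, k.2, rfl⟩))),
            Ideal.mul_mem_left _ _ (Ideal.mem_map_of_mem _ (Ideal.subset_span (Or.inr ⟨k, k.2, rfl⟩)))⟩
        | add x y hx hy =>
          simp only [map_add]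
          exact ⟨add_mem hx.1 hy.1, add_mem hx.2 hy.2⟩
      have := hc z
      rw [hz'] at this
      simpa [c1, c2] using this
    rw [Ideal.span_le]
    obtain ⟨α, β, h⟩ := hrep cu cv hcu hcv (v ⊗ₜ[C] d cu + u ⊗ₜ[C] d cv)
    -- choose coefficients solving `(α, β) · G = (v, u)`
    obtain ⟨g1, hg1⟩ := Submodule.Quotient.mk_surjective _ (D (algebraMap C E cu))
    obtain ⟨g2, hg2⟩ := Submodule.Quotient.mk_surjective _ (D (algebraMap C E cv))
    have hmod : ∀ (z : E) (cz : C) (g m : E × E), z - algebraMap C E cz ∈ maximalIdeal E ^ 2 →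
        D z = Submodule.Quotient.mk m → Submodule.Quotient.mk g = D (algebraMap C E cz) →
        g.1 - m.1 ∈ maximalIdeal E ∧ g.2 - m.2 ∈ maximalIdeal E := by
      intro z cz g m hz hm hg
      have h := hDm 1 _ hz
      rw [map_sub, hm, ← hg, ← Submodule.Quotient.mk_sub, pow_one] at h
      have : maximalIdeal E • (⊤ : Submodule E N) = (maximalIdeal E • (⊤ : Submodule E (E × E))).map
          (Submodule.span E ({(v, u)} : Set (E × E))).mkQ := by
        rw [Submodule.map_smul'', Submodule.map_top, Submodule.range_mkQ]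
      rw [this, Submodule.mem_map] at h
      obtain ⟨y, hy, hy'⟩ := h
      obtain ⟨lam, hlam⟩ := Submodule.mem_span_singleton.mp ((Submodule.Quotient.eq _).mp hy'.symm)
      have hy1 : y.1 ∈ maximalIdeal E ∧ y.2 ∈ maximalIdeal E := by
        refine Submodule.smul_induction_on hy (fun r hr z _ => ?_) fun y z hy hz =>
          ⟨add_mem hy.1 hz.1, add_mem hy.2 hz.2⟩
        exact ⟨Ideal.mul_mem_right _ _ hr, Ideal.mul_mem_right _ _ hr⟩
      have h1 : lam * v = m.1 - g.1 - y.1 := congrArg Prod.fst hlam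
      have h2 : lam * u = m.2 - g.2 - y.2 := congrArg Prod.snd hlam
      constructor
      · rw [show g.1 - m.1 = -(lam * v + y.1) by rw [h1]; ring]
        exact neg_mem (add_mem (Ideal.mul_mem_left _ _ hv) hy1.1)
      · rw [show g.2 - m.2 = -(lam * u + y.2) by rw [h2]; ring]
        exact neg_mem (add_mem (Ideal.mul_mem_left _ _ hu) hy1.2)
    obtain ⟨hg11, hg12⟩ := hmod u cu g1 _ hcu hDu hg1
    obtain ⟨hg21, hg22⟩ := hmod v cv g2 _ hcv hDv hg2
    simp only [sub_zero] at hg12 hg21
    have hdet : IsUnit (g1.1 * g2.2 - g1.2 * g2.1) := by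
      by_contra hc
      have hc' : g1.1 * g2.2 - g1.2 * g2.1 ∈ maximalIdeal E := (mem_maximalIdeal _).mpr hc
      have : (1 : E) ∈ maximalIdeal E := by
        rw [show (1 : E) = (g1.1 * g2.2 - g1.2 * g2.1) - ((g1.1 - 1) * g2.2 + (g2.2 - 1) - g1.2 * g2.1) by ring]
        exact sub_mem hc' (sub_mem (add_mem (Ideal.mul_mem_right _ _ hg11) hg22) (Ideal.mul_mem_right _ _ hg12))
      exact (maximalIdeal.isMaximal E).ne_top ((Ideal.eq_top_iff_one _).mpr this)
    obtain ⟨di, hdi⟩ := hdet.exists_right_inv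
    let α' := (v * g2.2 - u * g2.1) * di
    let β' := (u * g1.1 - v * g1.2) * di
    have e1 : α' * g1.1 + β' * g2.1 = v := by
      linear_combination (v : E) * hdi
    have e2 : α' * g1.2 + β' * g2.2 = u := by
      linear_combination (u : E) * hdi
    have hzero : α' ⊗ₜ[C] d cu + β' ⊗ₜ[C] d cv = 0 := by
      refine hinj _ ?_
      rw [map_add, LinearMap.liftBaseChange_tmul, LinearMap.liftBaseChange_tmul, hγ₀, hγ₀, ← hg1, ← hg2,
        ← Submodule.Quotient.mk_smul, ← Submodule.Quotient.mk_smul, ← Submodule.Quotient.mk_add,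
        Submodule.Quotient.mk_eq_zero, Submodule.mem_span_singleton]
      exact ⟨1, Prod.ext (by simp [e1]) (by simp [e2])⟩
    obtain ⟨hα, hβ⟩ := hker α' β' hzero
    rintro z (rfl | rfl)
    · rw [← e2]; exact add_mem (Ideal.mul_mem_right _ _ hα) (Ideal.mul_mem_right _ _ hβ)
    · rw [← e1]; exact add_mem (Ideal.mul_mem_right _ _ hα) (Ideal.mul_mem_right _ _ hβ)

end Groth.Agent.Misc3.NodeSec
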