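import Groth.Agent.Misc3.NodeSec.Retract
import Groth.Agent.Cohen.Completion
import Groth.Agent.Hensel.BranchDimOne

/-!
Retractions realizing a factorization of the node parameter.
-/

set_option autoImplicit false
universe u

open IsLocalRing MvPowerSeries

noncomputable section

namespace Groth.Agent.Misc3.NodeSec

open Groth.Agent.Misc3.NodePrimes

theorem exists_retraction_completion
    (R : Type u) [CommRing R] [IsNoetherianRing R] [HenselianLocalRing R]
    [IsDomain (AdicCompletion (maximalIdeal R) R)]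
    (Δ t₁ t₂ : R) (hΔ : Δ ≠ 0) (ht₁ : t₁ ∈ maximalIdeal R) (ht₂ : t₂ ∈ maximalIdeal R) (ht : t₁ * t₂ = Δ)
    (C : Type u) [CommRing C] [IsLocalRing C] [Algebra R C] [IsLocalHom (algebraMap R C)]
    [Algebra.EssFiniteType R C]
    (ψ : AdicCompletion (maximalIdeal C) C ≃+*
      (MvPowerSeries (Fin 2) (AdicCompletion (maximalIdeal R) R) ⧸
        Ideal.span {(X 0 * X 1 - MvPowerSeries.C (algebraMap R (AdicCompletion (maximalIdeal R) R) Δ) :
          MvPowerSeries (Fin 2) (AdicCompletion (maximalIdeal R) R))}))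
    (hψ : ψ.toRingHom.comp ((algebraMap C (AdicCompletion (maximalIdeal C) C)).comp (algebraMap R C)) =
      (Ideal.Quotient.mk _).comp ((MvPowerSeries.C : AdicCompletion (maximalIdeal R) R →+*
        MvPowerSeries (Fin 2) (AdicCompletion (maximalIdeal R) R)).comp
          (algebraMap R (AdicCompletion (maximalIdeal R) R)))) :
    ∃ (g : C →ₐ[R] R) (ĝ : AdicCompletion (maximalIdeal C) C →+* AdicCompletion (maximalIdeal R) R),
      ĝ.comp (algebraMap C (AdicCompletion (maximalIdeal C) C)) =
        (algebraMap R (AdicCompletion (maximalIdeal R) R)).comp g.toRingHom ∧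
      Ideal.span {ĝ (ψ.symm (Ideal.Quotient.mk _ (X 0)))} =
        Ideal.span {algebraMap R (AdicCompletion (maximalIdeal R) R) t₁} ∧
      Ideal.span {ĝ (ψ.symm (Ideal.Quotient.mk _ (X 1)))} =
        Ideal.span {algebraMap R (AdicCompletion (maximalIdeal R) R) t₂} := by
  haveI : IsNoetherianRing C := Algebra.EssFiniteType.isNoetherianRing R C
  haveI := Groth.Agent.Hensel.henselianLocalRing_completion C
  have hinj : Function.Injective (algebraMap R (AdicCompletion (maximalIdeal R) R)) := by
    rw [injective_iff_map_eq_zero]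
    intro a ha
    have : a ∈ ⨅ n, maximalIdeal R ^ n := (Submodule.mem_iInf _).mpr fun n =>
      Cohen.eval_mem_pow (A := R) (by rw [ha]; exact zero_mem _)
    rwa [Ideal.iInf_pow_eq_bot_of_isLocalRing _ (maximalIdeal.isMaximal R).ne_top] at this
  refine exists_retraction (R := R) hinj (fun n s => Cohen.exists_sub_mem_pow s n)
    AdicCompletion.maximalIdeal_eq_map.symm (fun n => le_antisymm (fun x hx => Cohen.eval_mem_pow hx) ?_)
    (fun n x => Cohen.exists_sub_mem_pow x n) Δ t₁ t₂ hΔ ht₁ ht₂ ht
    (ψ.symm.toRingHom.comp (Ideal.Quotient.mk _)) ⟨?_, ?_, ?_⟩ ?_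
  · rw [← Ideal.map_le_iff_le_comap, Ideal.map_pow, ← AdicCompletion.maximalIdeal_eq_map]
  · exact ψ.symm.surjective.comp Ideal.Quotient.mk_surjective
  · rw [RingHom.ker_comp_of_injective _ ψ.symm.injective, Ideal.mk_ker]
    rfl
  · rw [← ht, map_mul]
    refine Ideal.mul_mem_right _ _ ?_
    rw [AdicCompletion.maximalIdeal_eq_map]
    exact Ideal.mem_map_of_mem _ ht₁
  · intro r
    apply ψ.injective
    rw [IsScalarTower.algebraMap_apply R C (AdicCompletion (maximalIdeal C) C)]
    simp only [RingHom.comp_apply, RingEquiv.toRingHom_eq_coe, RingHom.coe_coe, RingEquiv.apply_symm_apply]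
    exact RingHom.congr_fun hψ r

end Groth.Agent.Misc3.NodeSec
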