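import Groth.Agent.Misc3.NodePrimes
import Groth.Agent.Misc3.NodeSec.Diff
import Groth.Agent.ArtKit.PSRing
import Mathlib.RingTheory.MvPowerSeries.Derivative

/-!
Facts about a ring presented as `S[[x,y]]/(xy - Δ)`.
-/

set_option autoImplicit false
universe u

open IsLocalRing

noncomputable section

namespace Groth.Agent.Misc3.NodeSec

open Groth.Agent.Misc3.NodeUnits Groth.Agent.Misc3.NodePrimes

variable {S E : Type u} [CommRing S] [IsLocalRing S] [CommRing E] [IsLocalRing E]

/-- `π` presents `E` as `S[[x,y]]/(xy - Δ)`. -/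
structure IsPres (π : P2 S →+* E) (Δ : S) : Prop where
  surj : Function.Surjective π
  ker : RingHom.ker π = Ideal.span {rel Δ}
  mem : Δ ∈ maximalIdeal S

variable {π : P2 S →+* E} {Δ : S}

omit [IsLocalRing S] in
theorem exists_decomp (f : P2 S) : ∃ g h : P2 S,
    f = MvPowerSeries.C (MvPowerSeries.constantCoeff f) + g * MvPowerSeries.X 0 + h * MvPowerSeries.X 1 := by
  have hrange : Set.range (MvPowerSeries.X : Fin 2 → P2 S) = {MvPowerSeries.X 0, MvPowerSeries.X 1} := by
    ext z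
    constructor
    · rintro ⟨i, rfl⟩; fin_cases i <;> simp
    · rintro (rfl | rfl) <;> exact ⟨_, rfl⟩
  have h := Groth.Agent.ArtPow.sub_C_constantCoeff_mem f
  rw [hrange, Ideal.mem_span_pair] at h
  obtain ⟨g, h', hgh⟩ := h
  exact ⟨g, h', by linear_combination -hgh⟩

theorem IsPres.uv (hπ : IsPres π Δ) :
    π (MvPowerSeries.X 0) * π (MvPowerSeries.X 1) = π (MvPowerSeries.C Δ) := by
  rw [← map_mul, ← sub_eq_zero, ← map_sub, ← RingHom.mem_ker, hπ.ker]
  exact Ideal.subset_span rfl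

theorem IsPres.mem_maximal_iff (hπ : IsPres π Δ) (f : P2 S) :
    π f ∈ maximalIdeal E ↔ MvPowerSeries.constantCoeff f ∈ maximalIdeal S := by
  constructor
  · intro h
    by_contra hu
    have : IsUnit f := MvPowerSeries.isUnit_iff_constantCoeff.mpr (notMem_maximalIdeal.mp hu)
    exact (mem_maximalIdeal _).mp h (this.map π)
  · intro h
    rw [mem_maximalIdeal, mem_nonunits_iff]
    intro hu
    obtain ⟨y, hy⟩ := hu.exists_right_inv
    obtain ⟨g, rfl⟩ := hπ.surj y
    rw [← map_mul, ← map_one π, ← sub_eq_zero, ← map_sub, ← RingHom.mem_ker, hπ.ker,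
      Ideal.mem_span_singleton] at hy
    obtain ⟨k, hk⟩ := hy
    have := congrArg MvPowerSeries.constantCoeff hk
    simp [rel] at this
    have h1 : (1 : S) ∈ maximalIdeal S := by
      rw [show (1 : S) = MvPowerSeries.constantCoeff f * MvPowerSeries.constantCoeff g +
        Δ * MvPowerSeries.constantCoeff k by linear_combination -this]
      exact add_mem (Ideal.mul_mem_right _ _ h) (Ideal.mul_mem_right _ _ hπ.mem)
    exact (maximalIdeal.isMaximal S).ne_top ((Ideal.eq_top_iff_one _).mpr h1)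

theorem IsPres.X_mem (hπ : IsPres π Δ) (i : Fin 2) : π (MvPowerSeries.X i) ∈ maximalIdeal E := by
  rw [hπ.mem_maximal_iff, MvPowerSeries.constantCoeff_X]; exact zero_mem _

theorem IsPres.C_mem (hπ : IsPres π Δ) {a : S} (ha : a ∈ maximalIdeal S) :
    π (MvPowerSeries.C a) ∈ maximalIdeal E := by
  rwa [hπ.mem_maximal_iff, MvPowerSeries.constantCoeff_C]

/-- Coefficient test on quadratic relations. -/
theorem IsPres.quad (hπ : IsPres π Δ) [IsDomain S] (hΔ0 : Δ ≠ 0) {A B C : E}
    (h : A * π (MvPowerSeries.X 0) ^ 2 + B * (π (MvPowerSeries.X 0) * π (MvPowerSeries.X 1)) +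
      C * π (MvPowerSeries.X 1) ^ 2 = 0) :
    A ∈ maximalIdeal E ∧ B ∈ maximalIdeal E ∧ C ∈ maximalIdeal E := by
  classical
  obtain ⟨fA, rfl⟩ := hπ.surj A
  obtain ⟨fB, rfl⟩ := hπ.surj B
  obtain ⟨fC, rfl⟩ := hπ.surj C
  rw [← map_pow, ← map_pow, ← map_mul, ← map_mul, ← map_mul, ← map_mul, ← map_add, ← map_add,
    ← RingHom.mem_ker, hπ.ker, Ideal.mem_span_singleton] at h
  obtain ⟨k, hk⟩ := h
  rw [hπ.mem_maximal_iff, hπ.mem_maximal_iff, hπ.mem_maximal_iff]
  have hco := fun i j => congrArg (MvPowerSeries.coeff (ex i j)) hk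
  simp only [rel, sub_mul, map_add, map_sub, MvPowerSeries.coeff_C_mul, MvPowerSeries.X,
    MvPowerSeries.monomial_mul_monomial, MvPowerSeries.monomial_pow, one_pow, mul_one,
    MvPowerSeries.coeff_mul_monomial, MvPowerSeries.coeff_monomial_mul, one_mul] at hco
  have le : ∀ (a b i j : ℕ), ex a b ≤ ex i j ↔ a ≤ i ∧ b ≤ j := by
    intro a b i j
    rw [Finsupp.le_def, Fin.forall_fin_two, ex_zero, ex_zero, ex_one, ex_one]
  have sub : ∀ (a b i j : ℕ), ex i j - ex a b = ex (i - a) (j - b) := by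
    intro a b i j
    rw [eq_ex (ex i j - ex a b), Finsupp.tsub_apply, Finsupp.tsub_apply, ex_zero, ex_zero, ex_one, ex_one]
  have e20 : (2 • Finsupp.single (0 : Fin 2) 1 : Fin 2 →₀ ℕ) = ex 2 0 := by simp [ex]
  have e02 : (2 • Finsupp.single (1 : Fin 2) 1 : Fin 2 →₀ ℕ) = ex 0 2 := by simp [ex]
  have e11 : (Finsupp.single (0 : Fin 2) 1 + Finsupp.single 1 1 : Fin 2 →₀ ℕ) = ex 1 1 := rfl
  simp only [e20, e02, e11, le, sub] at hco
  have c00 : MvPowerSeries.coeff (ex 0 0) k = 0 := by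
    have := hco 0 0
    simpa [hΔ0] using this
  have hcc : ∀ q : P2 S, MvPowerSeries.coeff (ex 0 0) q = MvPowerSeries.constantCoeff q := fun q => by
    rw [show ex 0 0 = 0 by simp [ex], MvPowerSeries.coeff_zero_eq_constantCoeff_apply]
  have c20 := hco 2 0
  have c11 := hco 1 1
  have c02 := hco 0 2
  simp [hcc] at c20 c11 c02 c00
  refine ⟨?_, ?_, ?_⟩
  · rw [c20]; exact neg_mem (Ideal.mul_mem_right _ _ hπ.mem)
  · rw [c11, c00, zero_sub]; exact neg_mem (Ideal.mul_mem_right _ _ hπ.mem)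
  · rw [c02]; exact neg_mem (Ideal.mul_mem_right _ _ hπ.mem)

variable [IsNoetherianRing S]

/-- `x v ∈ (u)` implies `x ∈ (u)`. -/
theorem IsPres.cancel (hπ : IsPres π Δ) {i j : Fin 2} (hij : i ≠ j) {x : E}
    (hx : x * π (MvPowerSeries.X j) ∈ Ideal.span {π (MvPowerSeries.X i)}) :
    x ∈ Ideal.span {π (MvPowerSeries.X i)} := by
  classical
  have hCm : π (MvPowerSeries.C Δ) ∈ Ideal.span {π (MvPowerSeries.X i)} := by
    rw [← hπ.uv]
    fin_cases i
    · exact Ideal.mul_mem_right _ _ (Ideal.subset_span rfl)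
    · exact Ideal.mul_mem_left _ _ (Ideal.subset_span rfl)
  obtain ⟨f, rfl⟩ := hπ.surj x
  obtain ⟨y, hy⟩ := Ideal.mem_span_singleton.mp hx
  obtain ⟨g, rfl⟩ := hπ.surj y
  rw [← map_mul, ← map_mul, ← sub_eq_zero, ← map_sub, ← RingHom.mem_ker, hπ.ker, Ideal.mem_span_singleton] at hy
  obtain ⟨k, hk⟩ := hy
  have hmem : f * MvPowerSeries.X j ∈ Kx (Ideal.span {Δ}) i := by
    rw [show f * MvPowerSeries.X j = MvPowerSeries.X i * g + rel Δ * k by linear_combination hk]
    refine add_mem (Ideal.mem_sup_right (Ideal.mul_mem_right _ _ (Ideal.subset_span rfl))) (Ideal.mul_mem_right _ _ ?_)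
    refine sub_mem (Ideal.mem_sup_right ?_)
      (Ideal.mem_sup_left (Ideal.mem_map_of_mem _ (Ideal.mem_span_singleton_self _)))
    fin_cases i
    · exact Ideal.mul_mem_right _ _ (Ideal.subset_span rfl)
    · exact Ideal.mul_mem_left _ _ (Ideal.subset_span rfl)
  have hf : f ∈ Kx (Ideal.span {Δ}) i := by
    rw [mem_Kx_iff (IsNoetherian.noetherian _)] at hmem ⊢
    intro d hd
    have h1 := hmem (d + Finsupp.single j 1) (by simp [hd, Ne.symm hij])
    rwa [MvPowerSeries.X, MvPowerSeries.coeff_mul_monomial, if_pos le_add_self, add_tsub_cancel_right, mul_one] at h1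
  have hle : Kx (Ideal.span {Δ}) i ≤ Ideal.comap π (Ideal.span {π (MvPowerSeries.X i)}) := by
    refine sup_le ?_ ?_
    · rw [Ideal.map_span, Set.image_singleton, Ideal.span_singleton_le_iff_mem]; exact hCm
    · rw [Ideal.span_singleton_le_iff_mem]; exact Ideal.subset_span rfl
  exact hle hf

section Deriv

variable (π)

/-- Pairs of partial derivatives. -/
def phi : P2 S →+ N0 (π (MvPowerSeries.X 0)) (π (MvPowerSeries.X 1)) where
  toFun f := Submodule.Quotient.mk (π (MvPowerSeries.pderiv S 0 f), π (MvPowerSeries.pderiv S 1 f))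
  map_zero' := by
    simp only [map_zero]
    exact Submodule.Quotient.mk_zero _
  map_add' f g := by
    rw [map_add, map_add, map_add, map_add, ← Submodule.Quotient.mk_add]
    rfl

theorem phi_mul (f g : P2 S) : phi π (f * g) = π f • phi π g + π g • phi π f := by
  show Submodule.Quotient.mk _ = π f • Submodule.Quotient.mk _ + π g • Submodule.Quotient.mk _
  rw [← Submodule.Quotient.mk_smul, ← Submodule.Quotient.mk_smul, ← Submodule.Quotient.mk_add]
  congr 1
  simp [Derivation.leibniz]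

variable {π}

theorem IsPres.exists_derivation (hπ : IsPres π Δ) (R : Type u) [CommRing R] [Algebra R E]
    (ρ : R → S) (hρ : ∀ r, algebraMap R E r = π (MvPowerSeries.C (ρ r))) :
    ∃ D : Derivation R E (N0 (π (MvPowerSeries.X 0)) (π (MvPowerSeries.X 1))),
      D (π (MvPowerSeries.X 0)) = Submodule.Quotient.mk (1, 0) ∧
      D (π (MvPowerSeries.X 1)) = Submodule.Quotient.mk (0, 1) := by
  have hrel : phi π (rel Δ) = 0 := by
    show Submodule.Quotient.mk _ = 0
    rw [Submodule.Quotient.mk_eq_zero, Submodule.mem_span_singleton]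
    exact ⟨1, by simp [rel, Derivation.leibniz]⟩
  have hker : ∀ f, π f = 0 → phi π f = 0 := by
    intro f hf
    rw [← RingHom.mem_ker, hπ.ker, Ideal.mem_span_singleton'] at hf
    obtain ⟨g, rfl⟩ := hf
    have h0 : π (rel Δ) = 0 := by
      rw [← RingHom.mem_ker, hπ.ker]; exact Ideal.subset_span rfl
    rw [phi_mul, hrel, h0, smul_zero, zero_smul, add_zero]
  choose sec hsec using hπ.surj
  have hwd : ∀ f, phi π (sec (π f)) = phi π f := fun f => by
    rw [← sub_eq_zero, ← map_sub]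
    exact hker _ (by rw [map_sub, hsec, sub_self])
  let L : E →ₗ[R] N0 (π (MvPowerSeries.X 0)) (π (MvPowerSeries.X 1)) :=
    { toFun := fun x => phi π (sec x)
      map_add' := fun x y => by
        rw [← map_add]
        conv_lhs => rw [← hsec x, ← hsec y, ← map_add, hwd]
      map_smul' := fun r x => by
        rw [RingHom.id_apply, ← algebraMap_smul E r (phi π (sec x)), Algebra.smul_def]
        conv_lhs => rw [← hsec x, hρ, ← map_mul, hwd, phi_mul]
        have hC : phi π (MvPowerSeries.C (ρ r)) = 0 := by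
          show Submodule.Quotient.mk _ = 0
          rw [MvPowerSeries.pderiv_C, MvPowerSeries.pderiv_C, map_zero]
          exact Submodule.Quotient.mk_zero _
        rw [hC, smul_zero, add_zero, ← hρ] }
  refine ⟨Derivation.mk' L fun x y => ?_, ?_, ?_⟩
  · show phi π (sec (x * y)) = x • phi π (sec y) + y • phi π (sec x)
    conv_lhs => rw [← hsec x, ← hsec y, ← map_mul, hwd, phi_mul, hsec, hsec]
  · show phi π (sec _) = _
    rw [hwd]
    show Submodule.Quotient.mk _ = _
    simp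
  · show phi π (sec _) = _
    rw [hwd]
    show Submodule.Quotient.mk _ = _
    simp

end Deriv

variable [IsAdicComplete (maximalIdeal S) S]

omit [IsNoetherianRing S] [IsAdicComplete (maximalIdeal S) S] in
theorem sub_mem_of_agree {n : ℕ} (w w' : P2 S →ₐ[S] S)
    (hX : ∀ i, w (MvPowerSeries.X i) - w' (MvPowerSeries.X i) ∈ maximalIdeal S ^ n)
    (hm : ∀ i, w (MvPowerSeries.X i) ∈ maximalIdeal S) (f : P2 S) : w f - w' f ∈ maximalIdeal S ^ n := by
  let Q := S ⧸ maximalIdeal S ^ n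
  let I : Ideal Q := (maximalIdeal S).map (Ideal.Quotient.mk _)
  have hI : I ^ n = ⊥ := by
    rw [← Ideal.map_pow, Ideal.map_quotient_self]
  have := Groth.Agent.ArtPow.algHom_ext hI
    (φ := (Ideal.Quotient.mkₐ S _).comp w) (ψ := (Ideal.Quotient.mkₐ S _).comp w')
    (fun i => Ideal.Quotient.eq.mpr (hX i)) (fun i => Ideal.mem_map_of_mem _ (hm i))
  exact Ideal.Quotient.eq.mp (DFunLike.congr_fun this f)

/-- The point of `E` where `ε u` takes the value `t₁`. -/
theorem IsPres.exists_point (hπ : IsPres π Δ) (t₁ t₂ : S) (h₁ : t₁ ∈ maximalIdeal S)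
    (h₂ : t₂ ∈ maximalIdeal S) (ht : t₁ * t₂ = Δ) (ε : E) (hε : IsUnit ε) :
    ∃ (h : E →+* S) (e : Sˣ), (∀ a, h (π (MvPowerSeries.C a)) = a) ∧
      h (π (MvPowerSeries.X 0)) = t₁ * e ∧ h (π (MvPowerSeries.X 1)) = t₂ * (e⁻¹ : Sˣ) ∧
      h ε * e = 1 := by
  obtain ⟨fε, rfl⟩ := hπ.surj ε
  have hfε : IsUnit fε := by
    rw [MvPowerSeries.isUnit_iff_constantCoeff]
    refine notMem_maximalIdeal.mp fun h => ?_
    exact (mem_maximalIdeal _).mp ((hπ.mem_maximal_iff fε).mpr h) hε
  let c : Sˣ → Fin 2 → S := fun e => ![t₁ * e, t₂ * (e⁻¹ : Sˣ)]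
  have hc : ∀ e i, c e i ∈ maximalIdeal S := by
    intro e i; fin_cases i
    · exact Ideal.mul_mem_right _ _ h₁
    · exact Ideal.mul_mem_right _ _ h₂
  choose w hw using fun e => Groth.Agent.ArtKit.exists_evalAdic (R := S) (maximalIdeal S) (c e) (hc e)
  let Φ : Sˣ → Sˣ := fun e => ((hfε.map (w e)).unit)⁻¹
  have hΦ : ∀ {n : ℕ} (e e' : Sˣ), (e : S) - e' ∈ maximalIdeal S ^ n →
      (Φ e : S) - Φ e' ∈ maximalIdeal S ^ (n + 1) := by
    intro n e e' h
    have h' : w e fε - w e' fε ∈ maximalIdeal S ^ (n + 1) := by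
      refine sub_mem_of_agree _ _ (fun i => ?_) (fun i => by rw [hw]; exact hc e i) fε
      rw [hw, hw, pow_succ']
      fin_cases i
      · show t₁ * e - t₁ * e' ∈ _
        rw [← mul_sub]; exact Ideal.mul_mem_mul h₁ h
      · show t₂ * (e⁻¹ : Sˣ) - t₂ * (e'⁻¹ : Sˣ) ∈ _
        rw [← mul_sub]; refine Ideal.mul_mem_mul h₂ ?_
        rw [show ((e⁻¹ : Sˣ) : S) - (e'⁻¹ : Sˣ) = -((e⁻¹ : Sˣ) * (e'⁻¹ : Sˣ) * ((e : S) - e')) by
          linear_combination ((e'⁻¹ : Sˣ) : S) * e.mul_inv - ((e⁻¹ : Sˣ) : S) * e'.mul_inv]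
        exact neg_mem (Ideal.mul_mem_left _ _ h)
    rw [show (Φ e : S) - Φ e' = -((Φ e : S) * Φ e' * (w e fε - w e' fε)) by
      have a1 : (Φ e : S) * w e fε = 1 := (hfε.map (w e)).val_inv_mul
      have a2 : (Φ e' : S) * w e' fε = 1 := (hfε.map (w e')).val_inv_mul
      linear_combination (Φ e' : S) * a1 - (Φ e : S) * a2]
    exact neg_mem (Ideal.mul_mem_left _ _ h')
  let seq : ℕ → Sˣ := fun n => Nat.rec (motive := fun _ => Sˣ) 1 (fun _ e => Φ e) n
  have hstep : ∀ n, (seq (n + 1) : S) - seq n ∈ maximalIdeal S ^ n := by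
    intro n
    induction n with
    | zero => simp
    | succ n ih => exact hΦ _ _ ih
  have hcauchy : ∀ m k, (seq (m + k) : S) - seq m ∈ maximalIdeal S ^ m := by
    intro m k
    induction k with
    | zero => simp
    | succ k ih =>
      rw [← sub_add_sub_cancel (seq (m + (k + 1)) : S) (seq (m + k) : S)]
      exact add_mem (Ideal.pow_le_pow_right (Nat.le_add_right m k) (hstep (m + k))) ih
  obtain ⟨L, hL⟩ := IsPrecomplete.prec' (I := maximalIdeal S) (fun n => (seq n : S)) (by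
    intro m n hmn
    rw [SModEq.sub_mem, smul_eq_mul, Ideal.mul_top]
    obtain ⟨k, rfl⟩ := Nat.exists_eq_add_of_le hmn
    rw [← neg_sub]
    exact neg_mem (hcauchy m k))
  have hL' : ∀ n, (seq n : S) - L ∈ maximalIdeal S ^ n := fun n => by
    have := hL n
    rwa [SModEq.sub_mem, smul_eq_mul, Ideal.mul_top] at this
  have hLu : IsUnit L := by
    refine notMem_maximalIdeal.mp fun h => ?_
    have h1 := hL' 1
    rw [pow_one] at h1
    exact (mem_maximalIdeal _).mp (by simpa using add_mem h1 h) (seq 1).isUnit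
  have hfix : (Φ hLu.unit : S) = L := by
    refine eq_of_forall_sub_mem fun n => ?_
    have h1 : (Φ hLu.unit : S) - Φ (seq n) ∈ maximalIdeal S ^ (n + 1) := hΦ _ _ (by
      rw [IsUnit.unit_spec, ← neg_sub]; exact neg_mem (hL' n))
    have := add_mem (Ideal.pow_le_pow_right (Nat.le_succ n) h1)
      (Ideal.pow_le_pow_right (Nat.le_succ n) (hL' (n + 1)))
    convert this using 1
    show _ = _ + ((Φ (seq n) : S) - L)
    ring
  let e := hLu.unit
  have hk : RingHom.ker π ≤ RingHom.ker (w e).toRingHom := by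
    rw [hπ.ker, Ideal.span_singleton_le_iff_mem, RingHom.mem_ker]
    show w e (rel Δ) = 0
    rw [rel, map_sub, map_mul, hw, hw, ← ht]
    show t₁ * e * (t₂ * (e⁻¹ : Sˣ)) - w e (algebraMap S (P2 S) (t₁ * t₂)) = 0
    rw [AlgHom.commutes, Algebra.algebraMap_self_apply]
    linear_combination (t₁ * t₂) * e.mul_inv
  let h : E →+* S := RingHom.liftOfSurjective π hπ.surj ⟨(w e).toRingHom, hk⟩
  have hh : ∀ f, h (π f) = w e f := fun f =>
    RingHom.liftOfRightInverse_comp_apply π _ (Function.rightInverse_surjInv hπ.surj) ⟨(w e).toRingHom, hk⟩ f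
  refine ⟨h, e, fun a => ?_, ?_, ?_, ?_⟩
  · rw [hh]; exact (w e).commutes a
  · rw [hh, hw]; rfl
  · rw [hh, hw]; rfl
  · rw [hh]
    have a1 : (Φ e : S) * w e fε = 1 := (hfε.map (w e)).val_inv_mul
    rw [hfix] at a1
    rw [mul_comm]
    exact a1

end Groth.Agent.Misc3.NodeSec
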