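import Groth.Agent.Misc3.NodeSec.Node
import Groth.Agent.Hensel.LocalPiece
import Mathlib.RingTheory.EssentialFiniteness
import Mathlib.RingTheory.ZariskisMainTheorem

/-!
Retractions of a formal node over a henselian base.
-/

set_option autoImplicit false
universe u

open IsLocalRing

noncomputable section

namespace Groth.Agent.Misc3.NodeSec

open Groth.Agent.Misc3.NodePrimes

section CE

variable {C E : Type u} [CommRing C] [IsLocalRing C] [IsNoetherianRing C] [CommRing E] [IsLocalRing E] [Algebra C E]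

theorem mem_of_mem_map (hcomap : ∀ n, (maximalIdeal E ^ n).comap (algebraMap C E) = maximalIdeal C ^ n)
    (hdense : ∀ (n : ℕ) (x : E), ∃ c : C, x - algebraMap C E c ∈ maximalIdeal E ^ n) (I : Ideal C) {x : C}
    (hx : algebraMap C E x ∈ I.map (algebraMap C E)) : x ∈ I := by
  by_cases hI : I = ⊤
  · rw [hI]; trivial
  have key : ∀ n, ∀ y ∈ I.map (algebraMap C E), ∃ c ∈ I, y - algebraMap C E c ∈ maximalIdeal E ^ n := by
    intro n y hy
    induction hy using Submodule.span_induction with
    | mem z hz => obtain ⟨c, hc, rfl⟩ := hz; exact ⟨c, hc, by simp⟩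
    | zero => exact ⟨0, zero_mem _, by simp⟩
    | add y z _ _ hy hz =>
      obtain ⟨c, hc, h1⟩ := hy
      obtain ⟨c', hc', h2⟩ := hz
      exact ⟨c + c', add_mem hc hc', by rw [map_add, add_sub_add_comm]; exact add_mem h1 h2⟩
    | smul e y _ hy =>
      obtain ⟨c, hc, h1⟩ := hy
      obtain ⟨ec, he⟩ := hdense n e
      refine ⟨ec * c, I.mul_mem_left _ hc, ?_⟩
      rw [smul_eq_mul, map_mul, show e * y - algebraMap C E ec * algebraMap C E c =
        (e - algebraMap C E ec) * y + algebraMap C E ec * (y - algebraMap C E c) by ring]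
      exact add_mem (Ideal.mul_mem_right _ _ he) (Ideal.mul_mem_left _ _ h1)
  have hmem : ∀ n, Ideal.Quotient.mk I x ∈ ((maximalIdeal C).map (Ideal.Quotient.mk I)) ^ n := by
    intro n
    obtain ⟨c, hc, h⟩ := key n _ hx
    rw [← map_sub, ← Ideal.mem_comap, hcomap] at h
    have := Ideal.mem_map_of_mem (Ideal.Quotient.mk I) h
    rwa [map_sub, Ideal.Quotient.eq_zero_iff_mem.mpr hc, sub_zero, Ideal.map_pow] at this
  haveI : Nontrivial (C ⧸ I) := Ideal.Quotient.nontrivial_iff.mpr hI
  haveI : IsLocalRing (C ⧸ I) := IsLocalRing.of_surjective' _ Ideal.Quotient.mk_surjective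
  have htop : (maximalIdeal C).map (Ideal.Quotient.mk I) ≠ ⊤ := by
    intro h
    have h2 := congrArg (Ideal.comap (Ideal.Quotient.mk I)) h
    rw [Ideal.comap_map_of_surjective _ Ideal.Quotient.mk_surjective, Ideal.comap_top,
      ← RingHom.ker_eq_comap_bot, Ideal.mk_ker, sup_eq_left.mpr (IsLocalRing.le_maximalIdeal hI)] at h2
    exact (maximalIdeal.isMaximal C).ne_top h2
  have : Ideal.Quotient.mk I x ∈ ⨅ n, ((maximalIdeal C).map (Ideal.Quotient.mk I)) ^ n :=
    (Submodule.mem_iInf _).mpr hmem
  rw [Ideal.iInf_pow_eq_bot_of_isLocalRing _ htop] at this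
  exact Ideal.Quotient.eq_zero_iff_mem.mp this

end CE

variable {R S C E : Type u} [CommRing R] [CommRing S] [CommRing C] [CommRing E]
  [Algebra R S] [Algebra R C] [Algebra C E] [Algebra R E] [IsScalarTower R C E]

/-- A map to `S` which factors set-theoretically through `R`. -/
theorem exists_section [HenselianLocalRing R] [IsNoetherianRing R] [IsLocalRing S] [IsDomain S]
    [IsLocalHom (algebraMap R S)] [IsLocalRing C] [IsLocalHom (algebraMap R C)] [Algebra.EssFiniteType R C]
    (hinj : Function.Injective (algebraMap R S))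
    (f : C →ₐ[R] S) (hf : ∀ c, IsUnit (f c) → IsUnit c)
    (a b c q p : C) (ρ : S) (t₁ t₂ : R) (ht₁ : t₁ ∈ maximalIdeal R) (ht₂ : t₂ ∈ maximalIdeal R)
    (hm : maximalIdeal C ≤ (maximalIdeal R).map (algebraMap R C) ⊔ Ideal.span {q, p})
    (hres : ∀ x : C, ∃ r : R, x - algebraMap R C r ∈ maximalIdeal C)
    (ha : a ∈ maximalIdeal C) (hc : c ∈ maximalIdeal C) (hρu : IsUnit ρ)
    (hρ : ρ * ρ - f b * ρ + f (a * c) = 0)
    (hU : f q * ρ + f c * f p = algebraMap R S t₁ * ρ)
    (hV : f a * f q + ρ * f p = algebraMap R S t₂) :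
    ∀ x : C, ∃ r : R, algebraMap R S r = f x := by
  classical
  let C0 := Algebra.EssFiniteType.subalgebra R C
  let G : Finset S := insert ρ ((Algebra.EssFiniteType.finset R C).image f)
  let S0 := Algebra.adjoin R (G : Set S)
  haveI : Algebra.FiniteType R S0 := (Subalgebra.fg_iff_finiteType _).mp (Subalgebra.fg_adjoin_finset G)
  have hρ0 : ρ ∈ S0 := Algebra.subset_adjoin (Finset.mem_insert_self _ _)
  have hC0 : ∀ x : C0, f x ∈ S0 := by
    intro x
    have hle : C0 ≤ Subalgebra.comap f S0 := Algebra.adjoin_le fun z hz =>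
      Algebra.subset_adjoin (Finset.mem_insert_of_mem (Finset.mem_image_of_mem _ hz))
    exact hle x.2
  let q0 : Ideal S0 := (maximalIdeal S).comap S0.val.toRingHom
  haveI : q0.IsPrime := Ideal.IsPrime.comap _
  haveI : q0.LiesOver (maximalIdeal R) := ⟨by
    ext r
    show r ∈ maximalIdeal R ↔ algebraMap R S r ∈ maximalIdeal S
    rw [mem_maximalIdeal, mem_maximalIdeal, mem_nonunits_iff, mem_nonunits_iff, not_iff_not]
    exact ⟨fun h => h.map _, fun h => IsUnit.of_map (algebraMap R S) r h⟩⟩
  let L := Localization.AtPrime q0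
  let j : L →ₐ[R] S := IsLocalization.liftAlgHom (M := q0.primeCompl) (f := S0.val) (fun y => by
    by_contra h
    exact y.2 ((mem_maximalIdeal _).mpr h))
  have hj : ∀ y : S0, j (algebraMap S0 L y) = (y : S) := fun y => IsLocalization.lift_eq _ y
  have hjinj : Function.Injective j := by
    refine (injective_iff_map_eq_zero j).mpr fun z hz => ?_
    obtain ⟨y, s, rfl⟩ := IsLocalization.exists_mk'_eq q0.primeCompl z
    have h := congrArg j (IsLocalization.mk'_spec L y s)
    rw [map_mul, hz, zero_mul, hj] at h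
    have : y = 0 := Subtype.ext h.symm
    rw [this, IsLocalization.mk'_zero]
  have hfl : ∀ x : C, ∃ z : L, j z = f x := by
    intro x
    obtain ⟨⟨y, s⟩, hys⟩ := IsLocalization.surj (Algebra.EssFiniteType.submonoid R C) x
    have hsu : IsUnit (algebraMap C0 C s) := IsLocalization.map_units C s
    have hs : (⟨f (s : C0), hC0 s⟩ : S0) ∈ q0.primeCompl := fun h =>
      (mem_maximalIdeal _).mp h (hsu.map f)
    refine ⟨IsLocalization.mk' L (⟨f (y : C), hC0 y⟩ : S0) ⟨_, hs⟩, ?_⟩
    have h := congrArg j (IsLocalization.mk'_spec L (⟨f (y : C), hC0 y⟩ : S0) ⟨_, hs⟩)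
    rw [map_mul, hj, hj] at h
    refine (hsu.map f).mul_left_inj.mp (h.trans ?_)
    rw [← map_mul]
    exact congrArg f hys.symm
  choose F hF using hfl
  have hFadd : ∀ x y, F (x + y) = F x + F y := fun x y => hjinj (by rw [map_add, hF, hF, hF, map_add])
  have hFmul : ∀ x y, F (x * y) = F x * F y := fun x y => hjinj (by rw [map_mul, hF, hF, hF, map_mul])
  have hFalg : ∀ r, F (algebraMap R C r) = algebraMap R L r := fun r => hjinj (by
    rw [hF, AlgHom.commutes, AlgHom.commutes])
  let Fh : C →+* L :=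
    { toFun := F
      map_one' := by have := hFalg 1; rwa [map_one, map_one] at this
      map_mul' := hFmul
      map_zero' := by have := hFalg 0; rwa [map_zero, map_zero] at this
      map_add' := hFadd }
  let M : Ideal L := (maximalIdeal R).map (algebraMap R L)
  have hMle : M ≤ maximalIdeal L := by
    rw [Ideal.map_le_iff_le_comap]
    intro r hr
    rw [Ideal.mem_comap, IsScalarTower.algebraMap_apply R S0 L, ← Localization.AtPrime.map_eq_maximalIdeal]
    refine Ideal.mem_map_of_mem _ ?_
    rw [Ideal.over_def q0 (maximalIdeal R)] at hr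
    exact hr
  have hFm : ∀ x ∈ maximalIdeal C, F x ∈ maximalIdeal L := by
    intro x hx
    rw [mem_maximalIdeal, mem_nonunits_iff]
    intro hu
    exact (mem_maximalIdeal _).mp hx (hf x (hF x ▸ hu.map j))
  let ρL : L := algebraMap S0 L ⟨ρ, hρ0⟩
  have hρL : IsUnit ρL := IsLocalization.map_units L
    (⟨⟨ρ, hρ0⟩, fun h => (mem_maximalIdeal _).mp h hρu⟩ : q0.primeCompl)
  have eU : F q * ρL + F c * F p = algebraMap R L t₁ * ρL := hjinj (by
    simp only [map_add, map_mul, hF, AlgHom.commutes, ρL, hj]; exact hU)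
  have eV : F a * F q + ρL * F p = algebraMap R L t₂ := hjinj (by
    simp only [map_add, map_mul, hF, AlgHom.commutes, ρL, hj]; exact hV)
  have hdet : IsUnit (ρL * ρL - F a * F c) := by
    refine notMem_maximalIdeal.mp fun h => ?_
    have h2 : ρL * ρL ∈ maximalIdeal L := by
      have := add_mem h (Ideal.mul_mem_right (F c) _ (hFm a ha))
      rwa [sub_add_cancel] at this
    exact (mem_maximalIdeal _).mp h2 (hρL.mul hρL)
  have ht₁M : algebraMap R L t₁ ∈ M := Ideal.mem_map_of_mem _ ht₁
  have ht₂M : algebraMap R L t₂ ∈ M := Ideal.mem_map_of_mem _ ht₂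
  have hqM : F q ∈ M := by
    refine (Ideal.mul_unit_mem_iff_mem _ hdet).mp ?_
    rw [show F q * (ρL * ρL - F a * F c) = algebraMap R L t₁ * (ρL * ρL) - algebraMap R L t₂ * F c by
      linear_combination ρL * eU - F c * eV]
    exact sub_mem (Ideal.mul_mem_right _ _ ht₁M) (Ideal.mul_mem_right _ _ ht₂M)
  have hpM : F p ∈ M := by
    refine (Ideal.mul_unit_mem_iff_mem _ hdet).mp ?_
    rw [show F p * (ρL * ρL - F a * F c) = algebraMap R L t₂ * ρL - algebraMap R L t₁ * (F a * ρL) by
      linear_combination ρL * eV - F a * eU]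
    exact sub_mem (Ideal.mul_mem_right _ _ ht₂M) (Ideal.mul_mem_right _ _ ht₁M)
  have hmM : ∀ x ∈ maximalIdeal C, F x ∈ M := by
    intro x hx
    have hle : (maximalIdeal R).map (algebraMap R C) ⊔ Ideal.span {q, p} ≤ M.comap Fh := by
      refine sup_le ?_ (Ideal.span_le.mpr ?_)
      · rw [Ideal.map_le_iff_le_comap, Ideal.comap_comap]
        intro r hr
        show F (algebraMap R C r) ∈ M
        rw [hFalg]; exact Ideal.mem_map_of_mem _ hr
      · rintro z (rfl | rfl)
        · exact hqM
        · exact hpM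
    exact hle (hm hx)
  have hCR : ∀ x : C, ∃ r, F x - algebraMap R L r ∈ M := by
    intro x
    obtain ⟨r, hr⟩ := hres x
    refine ⟨r, ?_⟩
    rw [← hFalg]
    show Fh x - Fh _ ∈ M
    rw [← map_sub]
    exact hmM _ hr
  let T : Subalgebra R L :=
    { carrier := {z | ∃ r, z - algebraMap R L r ∈ M}
      mul_mem' := by
        rintro y z ⟨r, hr⟩ ⟨r', hr'⟩
        refine ⟨r * r', ?_⟩
        rw [map_mul, show y * z - algebraMap R L r * algebraMap R L r' =
          (y - algebraMap R L r) * z + algebraMap R L r * (z - algebraMap R L r') by ring]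
        exact add_mem (Ideal.mul_mem_right _ _ hr) (Ideal.mul_mem_left _ _ hr')
      add_mem' := by
        rintro y z ⟨r, hr⟩ ⟨r', hr'⟩
        exact ⟨r + r', by rw [map_add, add_sub_add_comm]; exact add_mem hr hr'⟩
      algebraMap_mem' := fun r => ⟨r, by simp⟩ }
  have hS0 : ∀ y : S0, algebraMap S0 L y ∈ T := by
    intro y
    have h : ∀ (z : S) (hz : z ∈ S0), algebraMap S0 L ⟨z, hz⟩ ∈ T := by
      intro z hz
      induction hz using Algebra.adjoin_induction with
      | mem z hz =>
        simp only [G, Finset.coe_insert, Finset.coe_image, Set.mem_insert_iff, Set.mem_image] at hz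
        rcases hz with rfl | ⟨x, -, rfl⟩
        · -- `ρ (ρ - b) = - a c`
          have e : ρL * (ρL - F b) = - (F a * F c) := hjinj (by
            simp only [map_sub, map_neg, map_mul, hF, ρL, hj]
            have := hρ
            rw [map_mul] at this
            linear_combination this)
          have h1 : ρL - F b ∈ M := by
            refine (Ideal.unit_mul_mem_iff_mem _ hρL).mp ?_
            rw [e]
            exact neg_mem (Ideal.mul_mem_right _ _ (hmM a ha))
          obtain ⟨r, hr⟩ := hCR b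
          refine ⟨r, ?_⟩
          show ρL - algebraMap R L r ∈ M
          rw [← sub_add_sub_cancel ρL (F b)]
          exact add_mem h1 hr
        · obtain ⟨r, hr⟩ := hCR x
          refine ⟨r, ?_⟩
          convert hr using 2
          exact hjinj (by rw [hj, hF])
      | algebraMap r =>
        have h' : algebraMap S0 L (algebraMap R S0 r) ∈ T := by
          rw [← IsScalarTower.algebraMap_apply]; exact T.algebraMap_mem r
        exact h'
      | add y z hy hz ihy ihz =>
        have h' := add_mem ihy ihz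
        rw [← map_add] at h'
        exact h'
      | mul y z hy hz ihy ihz =>
        have h' := mul_mem ihy ihz
        rw [← map_mul] at h'
        exact h'
    exact h y y.2
  have hall : ∀ z : L, z ∈ T := by
    intro z
    obtain ⟨y, s, rfl⟩ := IsLocalization.exists_mk'_eq q0.primeCompl z
    obtain ⟨r, hr⟩ := hS0 y
    obtain ⟨r', hr'⟩ := hS0 (s : S0)
    have hr'u : IsUnit r' := by
      refine notMem_maximalIdeal.mp fun h => ?_
      have : algebraMap S0 L s ∈ maximalIdeal L := by
        have := add_mem (hMle hr') (hMle (Ideal.mem_map_of_mem (algebraMap R L) h))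
        rwa [sub_add_cancel] at this
      exact (mem_maximalIdeal _).mp this (IsLocalization.map_units L s)
    obtain ⟨v, hv⟩ := hr'u.exists_right_inv
    refine ⟨r * v, (Ideal.mul_unit_mem_iff_mem _ (IsLocalization.map_units L s)).mp ?_⟩
    have hv' : algebraMap R L r' * algebraMap R L v = 1 := by rw [← map_mul, hv, map_one]
    rw [map_mul, sub_mul, IsLocalization.mk'_spec,
      show algebraMap S0 L y - algebraMap R L r * algebraMap R L v * algebraMap S0 L s =
        (algebraMap S0 L y - algebraMap R L r) -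
          algebraMap R L r * algebraMap R L v * (algebraMap S0 L s - algebraMap R L r') by
      linear_combination (-(algebraMap R L r)) * hv']
    exact sub_mem hr (Ideal.mul_mem_left _ _ hr')
  haveI : Algebra.QuasiFiniteAt R q0 := by
    haveI : Algebra.WeaklyQuasiFiniteAt R q0 := by
      rw [Algebra.weaklyQuasiFiniteAt_iff]
      let N := Ideal.map (algebraMap R (Localization.AtPrime q0)) (q0.under R)
      haveI : Module.Finite R (Localization.AtPrime q0 ⧸ N) := by
        refine Module.Finite.of_surjective (Algebra.linearMap R (Localization.AtPrime q0 ⧸ N)) fun z => ?_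
        obtain ⟨z, rfl⟩ := Ideal.Quotient.mk_surjective z
        obtain ⟨r, hr⟩ := hall z
        refine ⟨r, ?_⟩
        have hN : q0.under R = maximalIdeal R := (Ideal.over_def q0 (maximalIdeal R)).symm
        rw [Algebra.linearMap_apply, ← Ideal.Quotient.mk_algebraMap, Ideal.Quotient.mk_eq_mk_iff_sub_mem]
        rw [← neg_sub]
        refine neg_mem ?_
        show z - algebraMap R L r ∈ Ideal.map (algebraMap R L) (q0.under R)
        rw [hN]; exact hr
      set_option synthInstance.maxHeartbeats 200000 in infer_instance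
    exact Algebra.QuasiFiniteAt.of_weaklyQuasiFiniteAt q0
  haveI : Module.Finite R L := Groth.Agent.Hensel.finite_atPrime R S0 q0
  have hsurj : Function.Surjective (Algebra.linearMap R L) := by
    rw [← LinearMap.range_eq_top, eq_top_iff]
    refine Submodule.le_of_le_smul_of_le_jacobson_bot Module.Finite.fg_top (maximalIdeal_le_jacobson ⊥) ?_
    intro z _
    obtain ⟨r, hr⟩ := hall z
    rw [← add_sub_cancel (algebraMap R L r) z]
    refine add_mem (Submodule.mem_sup_left ⟨r, rfl⟩) (Submodule.mem_sup_right ?_)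
    rw [Ideal.smul_top_eq_map]
    exact hr
  intro x
  obtain ⟨r, hr⟩ := hsurj (F x)
  exact ⟨r, by rw [← hF x, ← hr, Algebra.linearMap_apply, AlgHom.commutes]⟩

theorem exists_retraction [HenselianLocalRing R] [IsNoetherianRing R]
    [IsLocalRing S] [IsNoetherianRing S] [IsDomain S] [IsAdicComplete (maximalIdeal S) S]
    [IsLocalHom (algebraMap R S)]
    [IsLocalRing C] [IsNoetherianRing C] [IsLocalHom (algebraMap R C)] [Algebra.EssFiniteType R C]
    [HenselianLocalRing E] [IsNoetherianRing E]
    (hinj : Function.Injective (algebraMap R S))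
    (hRdense : ∀ (n : ℕ) (s : S), ∃ r : R, s - algebraMap R S r ∈ maximalIdeal S ^ n)
    (hmap : (maximalIdeal C).map (algebraMap C E) = maximalIdeal E)
    (hcomap : ∀ n, (maximalIdeal E ^ n).comap (algebraMap C E) = maximalIdeal C ^ n)
    (hdense : ∀ (n : ℕ) (x : E), ∃ c : C, x - algebraMap C E c ∈ maximalIdeal E ^ n)
    (Δ t₁ t₂ : R) (hΔ : Δ ≠ 0) (ht₁ : t₁ ∈ maximalIdeal R) (ht₂ : t₂ ∈ maximalIdeal R) (ht : t₁ * t₂ = Δ)
    (π : P2 S →+* E) (hπ : IsPres π (algebraMap R S Δ))
    (hcompat : ∀ r, algebraMap R E r = π (MvPowerSeries.C (algebraMap R S r))) :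
    ∃ (g : C →ₐ[R] R) (h : E →+* S), h.comp (algebraMap C E) = (algebraMap R S).comp g.toRingHom ∧
      Ideal.span {h (π (MvPowerSeries.X 0))} = Ideal.span {algebraMap R S t₁} ∧
      Ideal.span {h (π (MvPowerSeries.X 1))} = Ideal.span {algebraMap R S t₂} := by
  classical
  set u := π (MvPowerSeries.X 0) with hu
  set v := π (MvPowerSeries.X 1) with hv
  have hum : u ∈ maximalIdeal E := hπ.X_mem 0
  have hvm : v ∈ maximalIdeal E := hπ.X_mem 1
  have huv : u * v = algebraMap R E Δ := by rw [hu, hv, hπ.uv, hcompat]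
  have hΔS : algebraMap R S Δ ≠ 0 := (map_ne_zero_iff _ hinj).mpr hΔ
  have hloc : ∀ {r : R}, r ∈ maximalIdeal R → algebraMap R S r ∈ maximalIdeal S := fun {r} hr =>
    (mem_maximalIdeal _).mpr fun h => (mem_maximalIdeal _).mp hr (IsUnit.of_map (algebraMap R S) r h)
  have hloc' : ∀ {r : R}, algebraMap R S r ∈ maximalIdeal S → r ∈ maximalIdeal R := fun {r} hr =>
    (mem_maximalIdeal _).mpr fun h => (mem_maximalIdeal _).mp hr (h.map _)
  have hC2 : ∀ {s : S}, s ∈ maximalIdeal S ^ 2 → π (MvPowerSeries.C s) ∈ maximalIdeal E ^ 2 := by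
    intro s hs
    have hle : (maximalIdeal S).map (π.comp MvPowerSeries.C) ≤ maximalIdeal E :=
      Ideal.map_le_iff_le_comap.mpr fun a ha => hπ.C_mem ha
    have := Ideal.mem_map_of_mem (π.comp MvPowerSeries.C) hs
    rw [Ideal.map_pow] at this
    exact Ideal.pow_right_mono hle 2 this
  have hdecomp : ∀ x : E, ∃ (r : R) (a b : E), x - (algebraMap R E r + a * u + b * v) ∈ maximalIdeal E ^ 2 ∧
      (x ∈ maximalIdeal E → r ∈ maximalIdeal R) := by
    intro x
    obtain ⟨F, rfl⟩ := hπ.surj x
    obtain ⟨G, H, hF⟩ := exists_decomp F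
    obtain ⟨r, hr⟩ := hRdense 2 (MvPowerSeries.constantCoeff F)
    refine ⟨r, π G, π H, ?_, fun hx => hloc' ?_⟩
    · rw [hcompat, hu, hv, ← map_mul, ← map_mul, ← map_add, ← map_add, ← map_sub,
        show F - (MvPowerSeries.C (algebraMap R S r) + G * MvPowerSeries.X 0 + H * MvPowerSeries.X 1) =
          MvPowerSeries.C (MvPowerSeries.constantCoeff F - algebraMap R S r) by
          rw [map_sub]; linear_combination hF]
      exact hC2 hr
    · have := sub_mem ((hπ.mem_maximal_iff F).mp hx) (Ideal.pow_le_self two_ne_zero hr)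
      rwa [sub_sub_cancel] at this
  have hgen : ∀ x : E, ∃ (r : R) (a b : E), x - (algebraMap R E r + a * u + b * v) ∈ maximalIdeal E ^ 2 :=
    fun x => let ⟨r, a, b, h, _⟩ := hdecomp x; ⟨r, a, b, h⟩
  obtain ⟨D, hDu, hDv⟩ := hπ.exists_derivation R (algebraMap R S) hcompat
  obtain ⟨H, hH⟩ := exists_ideal u v hum hvm Δ huv hmap hcomap hdense hgen D hDu hDv
  let J := Ideal.span {u, v}
  have huJ : u ∈ J := Ideal.subset_span (Set.mem_insert _ _)
  have hvJ : v ∈ J := Ideal.subset_span (Set.mem_insert_of_mem _ rfl)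
  have hlift : ∀ x ∈ H.map (algebraMap C E), ∃ c ∈ H, x - algebraMap C E c ∈ maximalIdeal E * J := by
    intro x hx
    induction hx using Submodule.span_induction with
    | mem z hz => obtain ⟨c, hc, rfl⟩ := hz; exact ⟨c, hc, by simp⟩
    | zero => exact ⟨0, zero_mem _, by simp⟩
    | add y z _ _ hy hz =>
      obtain ⟨c, hc, h1⟩ := hy
      obtain ⟨c', hc', h2⟩ := hz
      exact ⟨c + c', add_mem hc hc', by rw [map_add, add_sub_add_comm]; exact add_mem h1 h2⟩
    | smul e y hyJ hy =>
      obtain ⟨c, hc, h1⟩ := hy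
      obtain ⟨ec, he⟩ := hdense 1 e
      rw [pow_one] at he
      refine ⟨ec * c, H.mul_mem_left _ hc, ?_⟩
      rw [smul_eq_mul, map_mul, show e * y - algebraMap C E ec * algebraMap C E c =
        (e - algebraMap C E ec) * y + algebraMap C E ec * (y - algebraMap C E c) by ring]
      refine add_mem (Ideal.mul_mem_mul he ?_) (Ideal.mul_mem_left _ _ h1)
      show y ∈ Ideal.span {u, v}
      rw [← hH]; exact hyJ
  have hform : ∀ x ∈ maximalIdeal E * J, ∃ g₁ g₂ : E, g₁ ∈ maximalIdeal E ∧ g₂ ∈ maximalIdeal E ∧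
      x = g₁ * u + g₂ * v := by
    intro x hx
    refine Submodule.mul_induction_on hx (fun y hy z hz => ?_) fun y z hy hz => ?_
    · obtain ⟨a, b, rfl⟩ := Ideal.mem_span_pair.mp hz
      exact ⟨y * a, y * b, Ideal.mul_mem_right _ _ hy, Ideal.mul_mem_right _ _ hy, by ring⟩
    · obtain ⟨a, b, ha, hb, rfl⟩ := hy
      obtain ⟨a', b', ha', hb', rfl⟩ := hz
      exact ⟨a + a', b + b', add_mem ha ha', add_mem hb hb', by ring⟩
  obtain ⟨q, hqH, hq⟩ := hlift u (by rw [hH]; exact huJ)
  obtain ⟨p, hpH, hp⟩ := hlift v (by rw [hH]; exact hvJ)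
  obtain ⟨g₁, g₂, hg₁, hg₂, hqe⟩ := hform _ hq
  obtain ⟨k₁, k₂, hk₁, hk₂, hpe⟩ := hform _ hp
  have hJH : J ≤ (Ideal.span {q, p}).map (algebraMap C E) := by
    refine Submodule.le_of_le_smul_of_le_jacobson_bot (IsNoetherian.noetherian _) (maximalIdeal_le_jacobson ⊥) ?_
    refine Ideal.span_le.mpr ?_
    have hqm : algebraMap C E q ∈ (Ideal.span {q, p}).map (algebraMap C E) :=
      Ideal.mem_map_of_mem _ (Ideal.subset_span (Set.mem_insert _ _))
    have hpm : algebraMap C E p ∈ (Ideal.span {q, p}).map (algebraMap C E) :=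
      Ideal.mem_map_of_mem _ (Ideal.subset_span (Set.mem_insert_of_mem _ rfl))
    rintro z (rfl | rfl)
    · rw [SetLike.mem_coe, ← add_sub_cancel (algebraMap C E q) u]
      exact add_mem (Submodule.mem_sup_left hqm) (Submodule.mem_sup_right (by rw [smul_eq_mul]; exact hq))
    · rw [SetLike.mem_coe, ← add_sub_cancel (algebraMap C E p) v]
      exact add_mem (Submodule.mem_sup_left hpm) (Submodule.mem_sup_right (by rw [smul_eq_mul]; exact hp))
  have hHle : ∀ x ∈ H, x ∈ Ideal.span {q, p} := fun x hx =>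
    mem_of_mem_map hcomap hdense _ (hJH (show algebraMap C E x ∈ Ideal.span {u, v} by
      rw [← hH]; exact Ideal.mem_map_of_mem _ hx))
  -- `Δ` as a quadratic form in `q, p`
  have hΔH : algebraMap R C Δ ∈ H * H := by
    refine mem_of_mem_map hcomap hdense _ ?_
    rw [← IsScalarTower.algebraMap_apply, Ideal.map_mul, hH, ← huv]
    exact Ideal.mul_mem_mul huJ hvJ
  obtain ⟨a, b, c, habc⟩ : ∃ a b c : C, algebraMap R C Δ = a * q ^ 2 + b * (q * p) + c * p ^ 2 := by
    refine Submodule.mul_induction_on (C := fun x => ∃ a b c : C, x = a * q ^ 2 + b * (q * p) + c * p ^ 2)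
      hΔH (fun y hy z hz => ?_) fun y z hy hz => ?_
    · obtain ⟨y1, y2, rfl⟩ := Ideal.mem_span_pair.mp (hHle y hy)
      obtain ⟨z1, z2, rfl⟩ := Ideal.mem_span_pair.mp (hHle z hz)
      exact ⟨y1 * z1, y1 * z2 + y2 * z1, y2 * z2, by ring⟩
    · obtain ⟨a, b, c, rfl⟩ := hy
      obtain ⟨a', b', c', rfl⟩ := hz
      exact ⟨a + a', b + b', c + c', by ring⟩
  let A' := algebraMap C E a
  let B' := algebraMap C E b
  let C' := algebraMap C E c
  have eq_q : algebraMap C E q = (1 - g₁) * u - g₂ * v := by linear_combination -hqe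
  have eq_p : algebraMap C E p = -k₁ * u + (1 - k₂) * v := by linear_combination -hpe
  have hquad : A' * algebraMap C E q ^ 2 + B' * (algebraMap C E q * algebraMap C E p) +
      C' * algebraMap C E p ^ 2 = u * v := by
    rw [huv, IsScalarTower.algebraMap_apply R C E, habc]
    simp [A', B', C']
  obtain ⟨h20, h11, h02⟩ := hπ.quad hΔS
    (A := A' * (1 - g₁) ^ 2 + B' * ((1 - g₁) * -k₁) + C' * k₁ ^ 2)
    (B := A' * (2 * (1 - g₁) * -g₂) + B' * ((1 - g₁) * (1 - k₂) + g₂ * k₁) + C' * (2 * -k₁ * (1 - k₂)) - 1)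
    (C := A' * g₂ ^ 2 + B' * (-g₂ * (1 - k₂)) + C' * (1 - k₂) ^ 2) (by
      rw [eq_q, eq_p] at hquad
      linear_combination hquad)
  have hz : ∀ {x : E}, x ∈ maximalIdeal E ↔ residue E x = 0 := fun {x} => (residue_eq_zero_iff x).symm
  rw [hz] at hg₁ hg₂ hk₁ hk₂
  have hA : A' ∈ maximalIdeal E := by
    rw [hz] at h20 ⊢
    simpa [hg₁, hg₂, hk₁, hk₂] using h20
  have hC : C' ∈ maximalIdeal E := by
    rw [hz] at h02 ⊢
    simpa [hg₁, hg₂, hk₁, hk₂] using h02
  have hB : B' - 1 ∈ maximalIdeal E := by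
    rw [hz] at h11 ⊢
    simpa [hg₁, hg₂, hk₁, hk₂] using h11
  have haC : a ∈ maximalIdeal C := by
    have h := hcomap 1; rw [pow_one, pow_one] at h; rw [← h]; exact hA
  have hcC : c ∈ maximalIdeal C := by
    have h := hcomap 1; rw [pow_one, pow_one] at h; rw [← h]; exact hC
  -- the root
  have hB1 : residue E B' = 1 := by
    have := hz.mp hB
    rwa [map_sub, map_one, sub_eq_zero] at this
  let P : Polynomial E := Polynomial.X ^ 2 - Polynomial.C B' * Polynomial.X + Polynomial.C (A' * C')
  obtain ⟨ρ, hρroot, hρb⟩ := HenselianLocalRing.is_henselian P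
    (by
      simp only [P]
      monicity!)
    B' (by
      simp only [P, Polynomial.eval_add, Polynomial.eval_sub, Polynomial.eval_pow, Polynomial.eval_X,
        Polynomial.eval_mul, Polynomial.eval_C]
      rw [show B' ^ 2 - B' * B' + A' * C' = A' * C' by ring]
      exact Ideal.mul_mem_right _ _ hA)
    (by
      refine notMem_maximalIdeal.mp fun h => ?_
      rw [hz] at h
      simp [P, hB1] at h)
  have hρ : ρ * ρ - B' * ρ + A' * C' = 0 := by
    have := hρroot
    simp [P, Polynomial.IsRoot] at this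
    linear_combination this
  have hρ1 : residue E ρ = 1 := by
    have := hz.mp hρb
    rw [map_sub, hB1, sub_eq_zero] at this
    exact this
  have hρu : IsUnit ρ := notMem_maximalIdeal.mp fun h => one_ne_zero (hρ1.symm.trans (hz.mp h))
  obtain ⟨ρ', hρ'⟩ := hρu.exists_right_inv
  -- the factors
  have hA0 := hz.mp hA
  have hC0 := hz.mp hC
  let α := (1 - g₁) + C' * ρ' * -k₁
  let β := -g₂ + C' * ρ' * (1 - k₂)
  let γ := A' * (1 - g₁) + ρ * -k₁
  let δ := A' * -g₂ + ρ * (1 - k₂)
  let U := algebraMap C E q + C' * ρ' * algebraMap C E p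
  let V := A' * algebraMap C E q + ρ * algebraMap C E p
  have hUe : U = α * u + β * v := by simp only [U, α, β, eq_q, eq_p]; ring
  have hVe : V = γ * u + δ * v := by simp only [V, γ, δ, eq_q, eq_p]; ring
  have hUV : U * V = u * v := by
    rw [← hquad]
    linear_combination (C' * algebraMap C E p ^ 2 + (algebraMap C E q * algebraMap C E p) * (B' - ρ)) * hρ' +
      (algebraMap C E q * algebraMap C E p * ρ') * hρ
  have hδ : IsUnit δ := notMem_maximalIdeal.mp fun h => by
    have := hz.mp h
    simp [δ, hA0, hg₂, hk₂, hρ1] at this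
  have hαu : IsUnit α := notMem_maximalIdeal.mp fun h => by
    have := hz.mp h
    simp [α, hg₁, hk₁] at this
  have hβ : β ∈ Ideal.span {u} := by
    have h1 : (β * δ * v) * v ∈ Ideal.span {u} := by
      refine Ideal.mem_span_singleton.mpr ⟨-(α * γ * u + (α * δ + β * γ - 1) * v), ?_⟩
      rw [hUe, hVe] at hUV
      linear_combination hUV
    have h2 := hπ.cancel (i := 0) (j := 1) (by decide) h1
    have h3 := hπ.cancel (i := 0) (j := 1) (by decide) h2
    exact (Ideal.mul_unit_mem_iff_mem _ hδ).mp h3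
  obtain ⟨β', hβ'⟩ := Ideal.mem_span_singleton.mp hβ
  let ε := α + β' * v
  have hεu : IsUnit ε := notMem_maximalIdeal.mp fun h => by
    have h' := sub_mem h (Ideal.mul_mem_left _ β' hvm)
    rw [add_sub_cancel_right] at h'
    exact (mem_maximalIdeal _).mp h' hαu
  have hUε : U = u * ε := by rw [hUe, hβ']; ring
  obtain ⟨h, e, hC', hhu, hhv, hhε⟩ := hπ.exists_point (algebraMap R S t₁) (algebraMap R S t₂)
    (hloc ht₁) (hloc ht₂) (by rw [← map_mul, ht]) ε hεu
  have halg : ∀ r, h (algebraMap C E (algebraMap R C r)) = algebraMap R S r := fun r => by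
    rw [← IsScalarTower.algebraMap_apply, hcompat, hC']
  let f : C →ₐ[R] S := { h.comp (algebraMap C E) with commutes' := halg }
  have hlocal : ∀ x : C, IsUnit (f x) → IsUnit x := by
    intro x hx
    by_contra hxu
    have hxm : algebraMap C E x ∈ maximalIdeal E := by
      rw [← hmap]; exact Ideal.mem_map_of_mem _ ((mem_maximalIdeal _).mpr hxu)
    obtain ⟨G0, hG0⟩ := hπ.surj (algebraMap C E x)
    have hc0 := (hπ.mem_maximal_iff G0).mp (hG0 ▸ hxm)
    obtain ⟨G, H', hG⟩ := exists_decomp G0
    have : f x ∈ maximalIdeal S := by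
      show h (algebraMap C E x) ∈ _
      rw [← hG0, hG]
      simp only [map_add, map_mul, hC']
      refine add_mem (add_mem hc0 (Ideal.mul_mem_left _ _ ?_)) (Ideal.mul_mem_left _ _ ?_)
      · rw [← hu, hhu]; exact Ideal.mul_mem_right _ _ (hloc ht₁)
      · rw [← hv, hhv]; exact Ideal.mul_mem_right _ _ (hloc ht₂)
    exact (mem_maximalIdeal _).mp this hx
  have ht₁0 : algebraMap R S t₁ ≠ 0 := by
    refine (map_ne_zero_iff _ hinj).mpr ?_
    intro h0; exact hΔ (by rw [← ht, h0, zero_mul])
  have hhU : h U = algebraMap R S t₁ := by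
    rw [hUε, map_mul, hhu, mul_assoc, mul_comm (e : S), hhε, mul_one]
  have hhV : h V = algebraMap R S t₂ := by
    refine mul_left_cancel₀ ht₁0 ?_
    have := congrArg h hUV
    rw [map_mul, hhU, map_mul, hhu, hhv] at this
    linear_combination this + (algebraMap R S t₁ * algebraMap R S t₂) * e.mul_inv
  have hm : maximalIdeal C ≤ (maximalIdeal R).map (algebraMap R C) ⊔ Ideal.span {q, p} := by
    intro x hx
    refine mem_of_mem_map hcomap hdense _ ?_
    have hle : maximalIdeal E ≤ ((maximalIdeal R).map (algebraMap R C) ⊔ Ideal.span {q, p}).map (algebraMap C E) := by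
      refine Submodule.le_of_le_smul_of_le_jacobson_bot (IsNoetherian.noetherian _) (maximalIdeal_le_jacobson ⊥) ?_
      intro z hz'
      obtain ⟨r, a, b, hr, hrm⟩ := hdecomp z
      rw [← sub_add_cancel z (algebraMap R E r + a * u + b * v)]
      refine add_mem (Submodule.mem_sup_right ?_) (Submodule.mem_sup_left ?_)
      · rwa [smul_eq_mul, ← pow_two]
      · rw [Ideal.map_sup]
        refine add_mem (add_mem (Submodule.mem_sup_left ?_) (Ideal.mul_mem_left _ _ (Submodule.mem_sup_right (hJH huJ))))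
          (Ideal.mul_mem_left _ _ (Submodule.mem_sup_right (hJH hvJ)))
        rw [IsScalarTower.algebraMap_apply R C E]
        exact Ideal.mem_map_of_mem _ (Ideal.mem_map_of_mem _ (hrm hz'))
    exact hle (hmap ▸ Ideal.mem_map_of_mem _ hx)
  have hres : ∀ x : C, ∃ r : R, x - algebraMap R C r ∈ maximalIdeal C := by
    intro x
    obtain ⟨r, a, b, hr⟩ := hgen (algebraMap C E x)
    refine ⟨r, ?_⟩
    have h1 := hcomap 1
    rw [pow_one, pow_one] at h1
    rw [← h1, Ideal.mem_comap, map_sub, ← IsScalarTower.algebraMap_apply,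
      show algebraMap C E x - algebraMap R E r =
        (algebraMap C E x - (algebraMap R E r + a * u + b * v)) + (a * u + b * v) by ring]
    exact add_mem (Ideal.pow_le_self two_ne_zero hr)
      (add_mem (Ideal.mul_mem_left _ _ hum) (Ideal.mul_mem_left _ _ hvm))
  have hsec := exists_section hinj f hlocal a b c q p (h ρ) t₁ t₂ ht₁ ht₂ hm hres haC hcC (hρu.map h)
    (by
      show h ρ * h ρ - h B' * h ρ + h (algebraMap C E (a * c)) = 0
      rw [map_mul (algebraMap C E), ← map_mul, ← map_mul, ← map_sub, ← map_add, hρ, map_zero])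
    (by
      show h (algebraMap C E q) * h ρ + h C' * h (algebraMap C E p) = _
      have e1 : algebraMap C E q * ρ + C' * algebraMap C E p = U * ρ := by
        simp only [U]
        linear_combination -(C' * algebraMap C E p) * hρ'
      have e2 := congrArg h e1
      rw [map_add, map_mul, map_mul, map_mul, hhU] at e2
      exact e2)
    (by
      show h A' * h (algebraMap C E q) + h ρ * h (algebraMap C E p) = _
      have e2 : h V = h A' * h (algebraMap C E q) + h ρ * h (algebraMap C E p) := by
        simp only [V, map_add, map_mul]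
      exact e2.symm.trans hhV)
  choose g hg using hsec
  let gA : C →ₐ[R] R :=
    { toFun := g
      map_one' := hinj (by rw [hg, map_one, map_one])
      map_mul' := fun x y => hinj (by rw [hg, map_mul, map_mul, hg, hg])
      map_zero' := hinj (by rw [hg, map_zero, map_zero])
      map_add' := fun x y => hinj (by rw [hg, map_add, map_add, hg, hg])
      commutes' := fun r => hinj (by rw [hg, AlgHom.commutes]; rfl) }
  refine ⟨gA, h, RingHom.ext fun x => (hg x).symm, ?_, ?_⟩
  · rw [hhu, Ideal.span_singleton_mul_right_unit e.isUnit]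
  · rw [hhv, Ideal.span_singleton_mul_right_unit (e⁻¹).isUnit]

end Groth.Agent.Misc3.NodeSec
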